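import Groth.Agent.DSites.ModLoc.PullPres

/-!
# Inverse images preserve local properties of sheaves of modules
-/

universe u

set_option autoImplicit false
set_option synthInstance.maxHeartbeats 100000

open CategoryTheory CategoryTheory.Limits Opposite
open Groth.Agent.ModTensor Groth.Agent.ModPull

namespace Groth.Agent.DSites.ModLoc

variable {C D : Type u} [SmallCategory C] [SmallCategory D] {J : GrothendieckTopology C}
  {K : GrothendieckTopology D} {O_C : Sheaf J CommRingCat.{u}} {O_D : Sheaf K CommRingCat.{u}}
  (f : ModSite.RMor O_C O_D)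

theorem coversTop_fn {I : Type*} {X : I → D} (h : K.CoversTop X) : J.CoversTop (fun i => f.fn.obj (X i)) := by
  intro W
  refine J.transitive (someSieve_mem (J := J) (K := K) f.fn W) _ fun W' t ht => ?_
  obtain ⟨U, ⟨a⟩⟩ := ht
  refine J.superset_covering (fun W'' g hg => ?_) (imgSieve_mem (J := J) (K := K) f.fn (h U) a)
  obtain ⟨V, c, b, hc, e⟩ := hg
  obtain ⟨i, ⟨q⟩⟩ := (Sieve.mem_ofObjects_iff _ _).1 hc
  exact (Sieve.mem_ofObjects_iff _ _).2 ⟨i, ⟨b ≫ f.fn.map q⟩⟩

section

variable {X : D} {F : ModSite.Mod O_D}

theorem epi_puTop (σ : (F.over X).GeneratingSections) :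
    Epi (freeTo ((ModSite.restr O_C (f.fn.obj X)).obj (f.pull.obj F)) (puTop f (F := F) (topGens σ))) :=
  epi_freeTo (gen_pull f (F := F) _ (gen_topGens σ))

/-- The generators of the inverse image. -/
noncomputable def pullGenerators (σ : (F.over X).GeneratingSections) :
    ((f.pull.obj F).over (f.fn.obj X)).GeneratingSections where
  I := σ.I
  s i := topSec ((ModSite.restr O_C (f.fn.obj X)).obj (f.pull.obj F)) (puTop f (F := F) (topGens σ) i)
  epi := epi_puTop f σ

theorem exists_pull_presentation (P : (F.over X).Presentation) :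
    ∃ Q : ((f.pull.obj F).over (f.fn.obj X)).Presentation,
      (Finite P.generators.I → Finite Q.generators.I) ∧ (Finite P.relations.I → Finite Q.relations.I) := by
  let ρ := (SheafOfModules.freeHomEquiv _).symm P.relations.s ≫ kernel.ι P.generators.π
  let r : P.relations.I → Sc (SheafOfModules.free (R := ModSite.ringSh (O_D.over X)) P.generators.I) (topO X) :=
    fun k => secTop (SheafOfModules.sectionsMap ρ (SheafOfModules.freeSection k))
  have er : freeTo _ r = ρ := free_hom_ext fun k => freeTo_bt _ r k
  have es : freeTo ((ModSite.restr O_D X).obj F) (topGens P.generators) = P.generators.π :=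
    freeTo_secTop P.generators.s
  have hw0 : ρ ≫ P.generators.π = 0 := by simp [ρ]
  have hw : freeTo _ r ≫ freeTo ((ModSite.restr O_D X).obj F) (topGens P.generators) = 0 :=
    (congrArg₂ (fun a b => a ≫ b) er es).trans hw0
  have aux : ∀ {a : SheafOfModules.free P.relations.I ⟶ SheafOfModules.free P.generators.I}
      {b : SheafOfModules.free P.generators.I ⟶ (ModSite.restr O_D X).obj F} (w : a ≫ b = 0),
      a = ρ → b = P.generators.π → Nonempty (IsColimit (CokernelCofork.ofπ b w)) := by
    intro a b w ha hb
    subst ha hb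
    exact ⟨P.isColimit⟩
  obtain ⟨hc⟩ := aux hw er es
  exact ⟨pullPresentation f hw hc, fun h => h, fun h => h⟩

theorem isIso_pullGenerators_π (σ : (F.over X).GeneratingSections) [IsIso σ.π] :
    IsIso (pullGenerators f σ).π := by
  let r : PEmpty.{u + 1} → Sc (SheafOfModules.free (R := ModSite.ringSh (O_D.over X)) σ.I) (topO X) :=
    fun k => k.elim
  have es : freeTo ((ModSite.restr O_D X).obj F) (topGens σ) = σ.π := freeTo_secTop σ.s
  have : IsIso (freeTo ((ModSite.restr O_D X).obj F) (topGens σ)) := by
    have := es.symm ▸ (inferInstance : IsIso σ.π)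
    exact this
  have e0 : freeTo _ r = 0 := free_hom_ext fun k => k.elim
  have hw : freeTo _ r ≫ freeTo ((ModSite.restr O_D X).obj F) (topGens σ) = 0 := by rw [e0, zero_comp]
  have hc : IsColimit (CokernelCofork.ofπ (freeTo ((ModSite.restr O_D X).obj F) (topGens σ)) hw) :=
    CokernelCofork.IsColimit.ofπ _ _ (fun k _ => inv (freeTo ((ModSite.restr O_D X).obj F) (topGens σ)) ≫ k)
      (fun k _ => IsIso.hom_inv_id_assoc _ k)
      (fun k _ m hm => (cancel_epi (freeTo ((ModSite.restr O_D X).obj F) (topGens σ))).1
        (hm.trans (IsIso.hom_inv_id_assoc _ k).symm))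
  have := isIso_cokernel_desc f hw hc
  have e0' : freeTo _ (puRel f r) = 0 := free_hom_ext fun k => k.elim
  have : IsIso (cokernel.π (freeTo _ (puRel f r))) := by
    have h : ∀ {g : SheafOfModules.free PEmpty.{u + 1} ⟶ SheafOfModules.free (R := ModSite.ringSh (O_C.over (f.fn.obj X))) σ.I},
        g = 0 → IsIso (cokernel.π g) := fun {g} hg => by subst hg; infer_instance
    exact h e0'
  show IsIso (freeTo ((ModSite.restr O_C (f.fn.obj X)).obj (f.pull.obj F)) (puTop f (F := F) (topGens σ)))
  rw [← cokernel.π_desc _ _ (puRel_comp f hw)]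
  infer_instance

end

variable {F : ModSite.Mod O_D}

theorem isQuasicoherent_pull [hF : SheafOfModules.IsQuasicoherent (R := ModSite.ringSh O_D) F] :
    SheafOfModules.IsQuasicoherent (R := ModSite.ringSh O_C) (f.pull.obj F) := by
  obtain ⟨q⟩ := hF.nonempty_quasicoherentData
  choose Q hQ using fun i => exists_pull_presentation f (q.presentation i)
  let q' : SheafOfModules.QuasicoherentData.{u} (R := ModSite.ringSh O_C) (f.pull.obj F) :=
    SheafOfModules.QuasicoherentData.mk.{u, u, u, u} q.I (fun i => f.fn.obj (q.X i))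
      (coversTop_fn f q.coversTop) Q
  exact q'.isQuasicoherent

theorem isFiniteType_pull [hF : SheafOfModules.IsFiniteType (R := ModSite.ringSh O_D) F] :
    SheafOfModules.IsFiniteType (R := ModSite.ringSh O_C) (f.pull.obj F) := by
  obtain ⟨σ, hσ⟩ := hF.exists_localGeneratorsData
  let σ' : SheafOfModules.LocalGeneratorsData.{u} (R := ModSite.ringSh O_C) (f.pull.obj F) :=
    SheafOfModules.LocalGeneratorsData.mk.{u, u, u, u} σ.I (fun i => f.fn.obj (σ.X i))
      (coversTop_fn f σ.coversTop) (fun i => pullGenerators f (σ.generators i))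
  have : σ'.IsFiniteType := by
    refine SheafOfModules.LocalGeneratorsData.IsFiniteType.mk (p := σ') fun i => ?_
    exact ⟨(hσ.isFiniteType i).finite⟩
  exact SheafOfModules.IsFiniteType.mk.{u, u, u} (Exists.intro σ' this)

set_option maxHeartbeats 800000 in
theorem isFinitePresentation_pull [hF : SheafOfModules.IsFinitePresentation (R := ModSite.ringSh O_D) F] :
    SheafOfModules.IsFinitePresentation (R := ModSite.ringSh O_C) (f.pull.obj F) := by
  obtain ⟨q, hq⟩ := hF.exists_quasicoherentData
  choose Q hQ₁ hQ₂ using fun i => exists_pull_presentation f (q.presentation i)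
  let q' : SheafOfModules.QuasicoherentData.{u} (R := ModSite.ringSh O_C) (f.pull.obj F) :=
    SheafOfModules.QuasicoherentData.mk.{u, u, u, u} q.I (fun i => f.fn.obj (q.X i))
      (coversTop_fn f q.coversTop) Q
  have : q'.IsFinitePresentation := by
    refine SheafOfModules.QuasicoherentData.IsFinitePresentation.mk (q := q') fun i => ?_
    have h₁ := hQ₁ i (hq.isFinite_presentation i).isFiniteType_generators.finite
    have h₂ := hQ₂ i (hq.isFinite_presentation i).isFiniteType_relations.finite
    exact @SheafOfModules.Presentation.IsFinite.mk _ _ _ _ _ _ _ (Q i) (SheafOfModules.GeneratingSections.IsFiniteType.mk h₁)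
      (SheafOfModules.GeneratingSections.IsFiniteType.mk h₂)
  exact SheafOfModules.IsFinitePresentation.mk.{u, u, u} (Exists.intro q' this)

set_option maxHeartbeats 800000 in
theorem isLocallyFree_pull [hF : SheafOfModules.IsLocallyFree (R := ModSite.ringSh O_D) F] :
    SheafOfModules.IsLocallyFree (R := ModSite.ringSh O_C) (f.pull.obj F) := by
  obtain ⟨σ, hσ⟩ := hF.exists_isLocallyFreeData
  let σ' : SheafOfModules.LocalGeneratorsData.{u} (R := ModSite.ringSh O_C) (f.pull.obj F) :=
    SheafOfModules.LocalGeneratorsData.mk.{u, u, u, u} σ.I (fun i => f.fn.obj (σ.X i))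
      (coversTop_fn f σ.coversTop) (fun i => pullGenerators f (σ.generators i))
  have : σ'.IsLocallyFreeData := by
    refine SheafOfModules.LocalGeneratorsData.IsLocallyFreeData.mk (q := σ') fun i => ?_
    have := hσ.isIso i
    exact isIso_pullGenerators_π f (σ.generators i)
  exact SheafOfModules.IsLocallyFree.mk.{u, u, u} (Exists.intro σ' this)

theorem nonempty_localGeneratorsData_pull
    (h : Nonempty (SheafOfModules.LocalGeneratorsData.{u} (R := ModSite.ringSh O_D) F)) :
    Nonempty (SheafOfModules.LocalGeneratorsData.{u} (R := ModSite.ringSh O_C) (f.pull.obj F)) := by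
  obtain ⟨σ⟩ := h
  exact ⟨SheafOfModules.LocalGeneratorsData.mk.{u, u, u, u} σ.I (fun i => f.fn.obj (σ.X i))
      (coversTop_fn f σ.coversTop) (fun i => pullGenerators f (σ.generators i))⟩

end Groth.Agent.DSites.ModLoc
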