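import Groth.Agent.ModPull.Tensor
import Mathlib.Algebra.Category.ModuleCat.Sheaf.PullbackFree

/-!
# The inverse image of a free module is free
-/

universe u

set_option autoImplicit false
set_option synthInstance.maxHeartbeats 100000

open CategoryTheory CategoryTheory.Limits Opposite
open Groth.Agent.ModTensor Groth.Agent.ModPull

namespace Groth.Agent.DSites.ModLoc

variable {C D : Type u} [SmallCategory C] [SmallCategory D] {J : GrothendieckTopology C}
  {K : GrothendieckTopology D} {O_C : Sheaf J CommRingCat.{u}} {O_D : Sheaf K CommRingCat.{u}}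
  (f : ModSite.RMor O_C O_D)

theorem bijective_pushforwardSections (M : ModSite.Mod O_C) :
    Function.Bijective (SheafOfModules.pushforwardSections f.sharpR (M := M)) := by
  constructor
  · intro s t e
    refine Subtype.ext (funext fun W => eq_of_locally' M (W := W.unop)
      ⟨_, someSieve_mem (J := J) (K := K) f.fn W.unop, fun V g ⟨U, ⟨a⟩⟩ => ?_⟩)
    refine (s.property g.op).trans (Eq.trans ?_ (t.property g.op).symm)
    refine (s.property a.op).symm.trans (Eq.trans ?_ (t.property a.op))
    exact congrArg (fun z => rs ((fg O_C).obj M) a.op z) (congrFun (congrArg Subtype.val e) (op U))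
  · intro t
    let P := (fg O_C).obj M
    let tv : ∀ U : D, P.obj (op (f.fn.obj U)) := fun U => t.val (op U)
    have ht : ∀ {U V : D} (c : V ⟶ U), rs P (f.fn.map c).op (tv U) = tv V := fun c => t.property c.op
    have agree : ∀ {W : C} {U₁ U₂ : D} (a₁ : W ⟶ f.fn.obj U₁) (a₂ : W ⟶ f.fn.obj U₂),
        rs P a₁.op (tv U₁) = rs P a₂.op (tv U₂) := by
      intro W U₁ U₂ a₁ a₂
      refine eq_of_locally' M ⟨_, pairSieve_mem (J := J) (K := K) f.fn a₁ a₂, fun V g ⟨Y, c₁, c₂, h, e₁, e₂⟩ => ?_⟩
      have k₁ : rs P g.op (rs P a₁.op (tv U₁)) = rs P h.op (tv Y) := by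
        rw [← rs_comp, ← op_comp, ← e₁, op_comp, rs_comp, ht]
      have k₂ : rs P g.op (rs P a₂.op (tv U₂)) = rs P h.op (tv Y) := by
        rw [← rs_comp, ← op_comp, ← e₂, op_comp, rs_comp, ht]
      exact k₁.trans k₂.symm
    have hsh := fun W : C => ((Presheaf.isSheaf_iff_isSheaf_forget J P.presheaf
      (CategoryTheory.forget Ab.{u})).1 M.isSheaf).isSheafFor _ (someSieve_mem (J := J) (K := K) f.fn W)
    let x : ∀ W : C, Presieve.FamilyOfElements (P.presheaf ⋙ CategoryTheory.forget Ab.{u})
        (someSieve f.fn W).arrows := fun W V g hg => rs P hg.choose_spec.some.op (tv hg.choose)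
    have hx : ∀ W, (x W).Compatible := by
      intro W Y₁ Y₂ Z g₁ g₂ f₁ f₂ h₁ h₂ e
      show rs P g₁.op (rs P _ _) = rs P g₂.op (rs P _ _)
      rw [← rs_comp, ← rs_comp, ← op_comp, ← op_comp]
      exact agree _ _
    let s : ∀ W : C, P.obj (op W) := fun W => (hsh W).amalgamate (x W) (hx W)
    have hs : ∀ (W : C) ⦃V : C⦄ (g : V ⟶ W) (U : D) (a : V ⟶ f.fn.obj U), rs P g.op (s W) = rs P a.op (tv U) := by
      intro W V g U a
      have hg : someSieve f.fn W g := ⟨U, ⟨a⟩⟩
      exact ((hsh W).valid_glue (hx W) g hg).trans (agree _ _)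
    refine ⟨⟨fun W => s W.unop, fun {W W'} g => ?_⟩, Subtype.ext (funext fun U => ?_)⟩
    · refine eq_of_locally' M (W := W'.unop) ⟨_, someSieve_mem (J := J) (K := K) f.fn W'.unop,
        fun V k ⟨U, ⟨a⟩⟩ => ?_⟩
      refine (rs_comp g k.op (s W.unop)).symm.trans ?_
      exact (hs W.unop (k ≫ g.unop) U a).trans (hs W'.unop k U a).symm
    · show s (f.fn.obj U.unop) = tv U.unop
      refine ((rs_id _).symm.trans ?_).trans (rs_id _)
      exact hs (f.fn.obj U.unop) (𝟙 _) U.unop (𝟙 _)

theorem isIso_pullUnit : IsIso (SheafOfModules.pullbackObjUnitToUnit f.sharpR) := by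
  rw [isIso_iff_coyoneda_map_bijective]
  intro M
  rw [← ((SheafOfModules.pullbackPushforwardAdjunction.{u} f.sharpR).homEquiv _ _).bijective.of_comp_iff',
    ← (SheafOfModules.unitHomEquiv _).bijective.of_comp_iff']
  convert! (bijective_pushforwardSections f M).comp (SheafOfModules.unitHomEquiv M).bijective
  ext k : 1
  dsimp
  rw [SheafOfModules.pushforwardSections_unitHomEquiv, EmbeddingLike.apply_eq_iff_eq,
    Adjunction.homEquiv_naturality_right,
    SheafOfModules.pullbackPushforwardAdjunction_homEquiv_pullbackObjUnitToUnit]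

/-- The inverse image of a free module. -/
noncomputable def pullFreeObjIso (I : Type u) :
    f.pull.obj (SheafOfModules.free I) ≅ SheafOfModules.free I :=
  have := isIso_pullUnit f
  have : PreservesColimitsOfSize.{u, u} f.pull := f.adj.leftAdjoint_preservesColimits
  (SheafOfModules.mapFreeIso f.pull I (asIso (SheafOfModules.pullbackObjUnitToUnit f.sharpR)).symm).symm

end Groth.Agent.DSites.ModLoc
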