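import Groth.Agent.DSites.ModLoc.Sect
import Groth.Agent.ModPull.Pure

/-!
# Inverse images of locally generated modules are locally generated
-/

universe u

set_option autoImplicit false

open CategoryTheory CategoryTheory.Limits Opposite
open Groth.Agent.ModTensor Groth.Agent.ModPull

namespace Groth.Agent.DSites.ModLoc

lemma isComb_map {R M : Type*} [CommRing R] [AddCommGroup M] [Module R M] {γ γ' : Type*} {gen : γ → M}
    {gen' : γ' → M} (φ : γ → γ') (h : ∀ x, gen x = gen' (φ x)) {m : M} (hm : IsComb (R := R) gen m) :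
    IsComb (R := R) gen' m :=
  isComb_induction IsComb.zero (fun _ _ ha hb => ha.add hb)
    (fun r x => IsComb.of_eq (congrArg (fun t => r • t) (h x)) (IsComb.gen_smul r (φ x))) hm

variable {C D : Type u} [SmallCategory C] [SmallCategory D] {J : GrothendieckTopology C}
  {K : GrothendieckTopology D} {O_C : Sheaf J CommRingCat.{u}} {O_D : Sheaf K CommRingCat.{u}}
  (f : ModSite.RMor O_C O_D) {X : D} {F : ModSite.Mod O_D} {I : Type u}
  (s : I → Sc ((ModSite.restr O_D X).obj F) (topO X))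

/-- The pullback of sections over an object, as sections over the image object. -/
noncomputable abbrev puTop (i : I) : Sc ((ModSite.restr O_C (f.fn.obj X)).obj (f.pull.obj F)) (topO (f.fn.obj X)) :=
  pu f F (U := op X) (s i)

theorem gen_pull (hs : Gen (U := fun _ : I => topO X) ((ModSite.restr O_D X).obj F) s) :
    Gen (U := fun _ : I => topO (f.fn.obj X)) ((ModSite.restr O_C (f.fn.obj X)).obj (f.pull.obj F))
      (puTop f s) := by
  intro W z
  have h : Locally J W.left (fun V g => IsComb (R := O_C.obj.obj (op V))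
      (fun i : I => rs ((fg O_C).obj (f.pull.obj F)) (g ≫ W.hom).op (pu f F (U := op X) (s i)))
      (rs ((fg O_C).obj (f.pull.obj F)) g.op z)) := by
    refine (locally_combination f F (W := W.left) z).bind fun W₁ g₁ ⟨Y, h₁, n, a, k, hk⟩ => ?_
    refine Locally.bind (P := fun V g => ∃ (Y₂ : D) (c₁ : Y₂ ⟶ Y) (c₂ : Y₂ ⟶ X) (h₂ : V ⟶ f.fn.obj Y₂),
      h₂ ≫ f.fn.map c₁ = g ≫ h₁ ∧ h₂ ≫ f.fn.map c₂ = g ≫ g₁ ≫ W.hom)
      ⟨_, pairSieve_mem (J := J) (K := K) f.fn h₁ (g₁ ≫ W.hom), fun V g hg => hg⟩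
      fun W₂ g₂ ⟨Y₂, c₁, c₂, h₂, e₁, e₂⟩ => ?_
    have hK : Locally K Y₂ (fun V c => ∀ l, IsComb (R := O_D.obj.obj (op V))
        (fun i : I => rs ((fg O_D).obj F) (c ≫ c₂).op (s i)) (rs ((fg O_D).obj F) (c ≫ c₁).op (k l))) := by
      refine Locally.forall_fintype fun l =>
        (locally_left (hs (Over.mk c₂) (rs ((fg O_D).obj F) c₁.op (k l)))).mono fun V c hc => ?_
      refine IsComb.of_eq (rs_comp c₁.op c.op (k l)) ?_
      refine isComb_map (R := (O_D.over X).obj.obj (op (Over.mk (c ≫ c₂)))) (gen := fun q => gens ((ModSite.restr O_D X).obj F) s (Over.mk (c ≫ c₂)) q)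
        (fun q => q.1) (fun q => ?_) hc
      refine congrArg (fun t : V ⟶ X => rs ((fg O_D).obj F) t.op (s q.1)) ?_
      exact (Category.comp_id q.2.left).symm.trans (Over.w q.2)
    refine (locally_lift f hK h₂).mono fun W₃ g₃ ⟨Y₃, c, h₃, hc, e₃⟩ => ?_
    have el : ∀ l, IsComb (R := O_C.obj.obj (op W₃))
        (fun i : I => rs ((fg O_C).obj (f.pull.obj F)) (((g₃ ≫ g₂) ≫ g₁) ≫ W.hom).op (pu f F (U := op X) (s i)))
        (rs ((fg O_C).obj (f.pull.obj F)) h₃.op (pu f F (U := op Y₃) (rs ((fg O_D).obj F) (c ≫ c₁).op (k l)))) := by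
      intro l
      refine isComb_induction (motive := fun x => IsComb (R := O_C.obj.obj (op W₃)) _
          (rs ((fg O_C).obj (f.pull.obj F)) h₃.op (pu f F (U := op Y₃) x)))
        (IsComb.of_eq ((congrArg _ (pu_zero f F)).trans (map_zero _)) IsComb.zero)
        (fun x y hx hy => IsComb.of_eq ((congrArg _ (pu_add f F x y)).trans (rs_add _ _ _)) (hx.add hy))
        (fun r i => ?_) (hc l)
      refine IsComb.of_eq (((congrArg _ (pu_smul f F r _)).trans (rs_smul _ _ _)).trans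
        (congrArg (fun t => _ • t) ?_)) (IsComb.gen_smul _ i)
      refine (congrArg (fun t => rs ((fg O_C).obj (f.pull.obj F)) h₃.op t) (pu_rs f F (c ≫ c₂).op (s i))).trans ?_
      refine (rs_comp _ h₃.op _).symm.trans ?_
      refine congrArg (fun t : W₃ ⟶ f.fn.obj X => rs ((fg O_C).obj (f.pull.obj F)) t.op (pu f F (U := op X) (s i))) ?_
      show h₃ ≫ f.fn.map (c ≫ c₂) = _
      rw [f.fn.map_comp, reassoc_of% e₃, e₂]
      simp only [Category.assoc]
    have ez : rs ((fg O_C).obj (f.pull.obj F)) ((g₃ ≫ g₂) ≫ g₁).op z =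
        ∑ l, (O_C.obj.map (g₃ ≫ g₂).op).hom (a l) • rs ((fg O_C).obj (f.pull.obj F)) h₃.op
          (pu f F (U := op Y₃) (rs ((fg O_D).obj F) (c ≫ c₁).op (k l))) := by
      refine (rs_comp g₁.op (g₃ ≫ g₂).op z).trans ?_
      refine (congrArg (fun t => rs ((fg O_C).obj (f.pull.obj F)) (g₃ ≫ g₂).op t) hk).trans ((rs_sum _ _ _).trans
        (Finset.sum_congr rfl fun l _ => ?_))
      refine (rs_smul _ _ _).trans (congrArg (fun t => _ • t) ?_)
      refine (rs_comp h₁.op (g₃ ≫ g₂).op _).symm.trans ?_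
      refine Eq.trans ?_ (congrArg (fun t => rs ((fg O_C).obj (f.pull.obj F)) h₃.op t)
        (pu_rs f F (c ≫ c₁).op (k l))).symm
      refine Eq.trans ?_ (rs_comp _ h₃.op _)
      refine congrArg (fun t : W₃ ⟶ f.fn.obj Y => rs ((fg O_C).obj (f.pull.obj F)) t.op (pu f F (U := op Y) (k l))) ?_
      show (g₃ ≫ g₂) ≫ h₁ = h₃ ≫ f.fn.map (c ≫ c₁)
      rw [f.fn.map_comp, reassoc_of% e₃, e₁, Category.assoc]
    exact IsComb.of_eq ez (isComb_sum _ _ fun l _ => isComb_smul _ (el l))
  refine (locally_over h).mono fun V g hg => ?_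
  refine isComb_map (fun i => (⟨i, toTop V⟩ : Σ _ : I, (V ⟶ topO (f.fn.obj X)))) (fun i => ?_) hg
  exact congrArg (fun t : V.left ⟶ f.fn.obj X => rs ((fg O_C).obj (f.pull.obj F)) t.op (pu f F (U := op X) (s i)))
    (Over.w g)

end Groth.Agent.DSites.ModLoc
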