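import Groth.Agent.DSites.ModLoc.PullGen
import Groth.Agent.ModTensor.ProjSheaf

/-!
# Inverse images of presented modules are presented
-/

universe u

set_option autoImplicit false

open CategoryTheory CategoryTheory.Limits Opposite MonoidalCategory
open Groth.Agent.ModTensor Groth.Agent.ModPull

namespace Groth.Agent.DSites.ModLoc

variable {C : Type u} [SmallCategory C] {J : GrothendieckTopology C} {O : Sheaf J CommRingCat.{u}} {U : C}

/-- Modules embed in the restrictions of their extensions by zero. -/
theorem mono_extZero_unit (M : ModSite.Mod (O.over U)) : Mono ((ModSite.extZeroAdj O U).unit.app M) := by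
  refine mono_of_mono_extZero_map _ ?_
  have h := (ModSite.extZeroAdj O U).left_triangle_components M
  have : IsSplitMono ((ModSite.extZero O U).map ((ModSite.extZeroAdj O U).unit.app M)) := ⟨⟨⟨_, h⟩⟩⟩
  infer_instance

section

variable {D : Type u} [SmallCategory D] {K : GrothendieckTopology D} {O_D : Sheaf K CommRingCat.{u}}
  (f : ModSite.RMor O O_D) (X : D)

/-- The free module on the image slice. -/
noncomputable abbrev free' (G : Type u) : ModSite.Mod (O.over (f.fn.obj X)) := SheafOfModules.free G

/-- Extension by zero from the image slice. -/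
noncomputable abbrev ext' (M : ModSite.Mod (O.over (f.fn.obj X))) : ModSite.Mod O :=
  (ModSite.extZero O (f.fn.obj X)).obj M

/-- The canonical map to the extension by zero, on sections at the top. -/
noncomputable abbrev eta (M : ModSite.Mod (O.over (f.fn.obj X))) (x : Sc M (topO (f.fn.obj X))) :
    Sc (ext' f X M) (f.fn.obj X) :=
  ((fg (O.over (f.fn.obj X))).map ((ModSite.extZeroAdj O (f.fn.obj X)).unit.app M)).app (op (topO _)) x

lemma eta_naturality {M N : ModSite.Mod (O.over (f.fn.obj X))} (φ : M ⟶ N) (x : Sc M (topO (f.fn.obj X))) :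
    ((fg O).map ((ModSite.extZero O (f.fn.obj X)).map φ)).app (op (f.fn.obj X)) (eta f X M x) =
      eta f X N (((fg (O.over (f.fn.obj X))).map φ).app (op (topO _)) x) :=
  (congrArg (fun k => ((fg (O.over (f.fn.obj X))).map k).app (op (topO (f.fn.obj X))) x)
    ((ModSite.extZeroAdj O (f.fn.obj X)).unit.naturality φ)).symm

/-- The basis of a free module in the direct image of the extension by zero. -/
noncomputable def liftFree (G : Type u) : SheafOfModules.free (R := ModSite.ringSh (O_D.over X)) G ⟶
    (ModSite.restr O_D X).obj (f.push.obj (ext' f X (free' f X G))) :=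
  freeTo ((ModSite.restr O_D X).obj (f.push.obj (ext' f X (free' f X G))))
    fun i => (eta f X (free' f X G) (bt i) : Sc (ext' f X (free' f X G)) (f.fn.obj X))

/-- Sections of a free module go to sections of a free module. -/
theorem exists_eta_eq (G : Type u) (x : Sc (SheafOfModules.free (R := ModSite.ringSh (O_D.over X)) G) (topO X)) :
    ∃ a, eta f X (free' f X G) a =
      ((fg (O_D.over X)).map (liftFree f X G)).app (op (topO X)) x := by
  let E := ext' f X (free' f X G)
  have := mono_extZero_unit (free' f X G)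
  let z : Sc E (f.fn.obj X) := ((fg (O_D.over X)).map (liftFree f X G)).app (op (topO X)) x
  refine exists_app_eq_of_locally ((ModSite.extZeroAdj O (f.fn.obj X)).unit.app (free' f X G))
    (W := topO (f.fn.obj X)) z ?_
  refine (locally_over (W := topO (f.fn.obj X))
    (locally_lift (J := J) f (locally_left (gen_bt (X := X) G (topO X) x)) (𝟙 (f.fn.obj X)))).mono
      fun V g ⟨Y, c, h, hc, e⟩ => ?_
  let Y' : Over X := Over.mk (c ≫ 𝟙 X)
  let k : Y' ⟶ topO X := Over.homMk c rfl
  have hg : h ≫ f.fn.map (c ≫ 𝟙 X) = g.left :=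
    (congrArg (fun t => h ≫ f.fn.map t) (Category.comp_id c)).trans (e.trans (Category.comp_id _))
  have e1 : rs ((fg O).obj E) g.left.op z = rs ((fg O).obj E) h.op
      (((fg (O_D.over X)).map (liftFree f X G)).app (op Y')
        (rs ((fg (O_D.over X)).obj _) k.op x)) := by
    refine Eq.trans ?_ (congrArg (fun t => rs ((fg O).obj E) h.op t)
      (app_rs ((fg (O_D.over X)).map (liftFree f X G)) k.op x)).symm
    refine Eq.trans ?_ (rs_comp (f.fn.map c).op h.op z)
    exact congrArg (fun t : V.left ⟶ f.fn.obj X => rs ((fg O).obj E) t.op z) (e.trans (Category.comp_id _)).symm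
  suffices H : ∀ y, IsComb (R := (O_D.over X).obj.obj (op Y')) (gens (U := fun _ : G => topO X)
      (SheafOfModules.free (R := ModSite.ringSh (O_D.over X)) G) bt Y') y →
      ∃ a, ((fg (O.over (f.fn.obj X))).map ((ModSite.extZeroAdj O (f.fn.obj X)).unit.app (free' f X G))).app
        (op V) a = rs ((fg O).obj E) h.op (((fg (O_D.over X)).map (liftFree f X G)).app (op Y') y) by
    obtain ⟨a, ha⟩ := H _ hc
    exact ⟨a, ha.trans e1.symm⟩
  intro y hy
  refine isComb_induction (motive := fun y => ∃ a,
    ((fg (O.over (f.fn.obj X))).map ((ModSite.extZeroAdj O (f.fn.obj X)).unit.app (free' f X G))).app (op V) a =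
      rs ((fg O).obj E) h.op (((fg (O_D.over X)).map (liftFree f X G)).app (op Y') y)) ?_ ?_ ?_ hy
  · exact ⟨0, (map_zero _).trans ((congrArg _ (map_zero _)).trans (map_zero _)).symm⟩
  · rintro p q ⟨a, ha⟩ ⟨b, hb⟩
    exact ⟨a + b, ((map_add _ a b).trans (congrArg₂ (· + ·) ha hb)).trans
      ((congrArg _ (map_add _ p q)).trans (rs_add _ _ _)).symm⟩
  · rintro r ⟨i, a⟩
    let r' : (O.over (f.fn.obj X)).obj.obj (op V) := (O.obj.map h.op).hom (shp f (U := op Y) r)
    refine ⟨r' • rs ((fg (O.over (f.fn.obj X))).obj _) (toTop V).op (bt i), ?_⟩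
    refine (map_smul _ _ _).trans ?_
    have el : ((fg (O_D.over X)).map (liftFree f X G)).app (op Y')
        (gens (U := fun _ : G => topO X) (SheafOfModules.free (R := ModSite.ringSh (O_D.over X)) G) bt Y' ⟨i, a⟩) =
        rs ((fg O).obj E) (f.fn.map a.left).op (eta f X (free' f X G) (bt i)) :=
      (app_rs ((fg (O_D.over X)).map (liftFree f X G)) a.op (bt i)).trans
        (congrArg (fun t => rs ((fg (O_D.over X)).obj
          ((ModSite.restr O_D X).obj (f.push.obj E))) a.op t) (freeTo_bt _ _ i))
    let lv : Sc (SheafOfModules.free (R := ModSite.ringSh (O_D.over X)) G) Y' → Sc E (f.fn.obj Y) := fun w =>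
      ((fg (O_D.over X)).map (liftFree f X G)).app (op Y') w
    have em : ∀ w, lv (r • w) = shp f (U := op Y) r • lv w :=
      fun w => map_smul (((fg (O_D.over X)).map (liftFree f X G)).app (op Y')).hom r w
    refine Eq.trans ?_ (congrArg (fun t => rs ((fg O).obj E) h.op t) (em _)).symm
    refine Eq.trans ?_ (rs_smul (P := (fg O).obj E) h.op (shp f (U := op Y) r) _).symm
    refine congrArg (fun t : Sc E V.left => ((O.obj.map h.op).hom (shp f (U := op Y) r)) • t) ?_
    refine (app_rs ((fg (O.over (f.fn.obj X))).map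
      ((ModSite.extZeroAdj O (f.fn.obj X)).unit.app (free' f X G))) (toTop V).op (bt i)).trans ?_
    refine Eq.trans ?_ (congrArg (fun t => rs ((fg O).obj E) h.op t) el).symm
    refine Eq.trans ?_ (rs_comp (f.fn.map a.left).op h.op _)
    refine congrArg (fun t : V.left ⟶ f.fn.obj X => rs ((fg O).obj E) t.op (eta f X (free' f X G) (bt i))) ?_
    show V.hom = h ≫ f.fn.map a.left
    rw [show a.left = c ≫ 𝟙 X from (Category.comp_id a.left).symm.trans (Over.w a), hg]
    exact ((Category.comp_id g.left).symm.trans (Over.w g)).symm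

variable {f X}

section

variable {F : ModSite.Mod O_D} {N : ModSite.Mod O} (γ : (ModSite.restr O_D X).obj F ⟶ (ModSite.restr O_D X).obj (f.push.obj N))

/-- The representable family. -/
abbrev one (X : D) : PUnit.{u + 1} → D := fun _ => X

/-- A local map, on the sections over an object mapping to the base. -/
noncomputable def locApp {V : Dᵒᵖ} (a : (sigYon (one X)).obj V) :
    ((fg O_D).obj F).obj V →ₗ[O_D.obj.obj V] ((fg O_D).obj (f.push.obj N)).obj V :=
  (((fg (O_D.over X)).map γ).app (op (Over.mk a.2))).hom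

/-- A combination of local maps. -/
noncomputable def lc {V : Dᵒᵖ} (p : (sigFree O_D (one X)).obj V) :
    ((fg O_D).obj F).obj V →ₗ[O_D.obj.obj V] ((fg O_D).obj (f.push.obj N)).obj V :=
  Finsupp.linearCombination (O_D.obj.obj V) (fun a => locApp γ (V := V) a) (asFinsupp p)

lemma lc_zero {V : Dᵒᵖ} (y : ((fg O_D).obj F).obj V) : lc γ (V := V) 0 y = 0 :=
  LinearMap.congr_fun (map_zero (Finsupp.linearCombination (O_D.obj.obj V) fun a => locApp γ (V := V) a)) y

lemma lc_add {V : Dᵒᵖ} (p q : (sigFree O_D (one X)).obj V) (y : ((fg O_D).obj F).obj V) :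
    lc γ (p + q) y = lc γ p y + lc γ q y :=
  LinearMap.congr_fun
    (map_add (Finsupp.linearCombination (O_D.obj.obj V) fun a => locApp γ (V := V) a) (asFinsupp p) (asFinsupp q)) y

lemma lc_smul {V : Dᵒᵖ} (r : O_D.obj.obj V) (p : (sigFree O_D (one X)).obj V) (y : ((fg O_D).obj F).obj V) :
    lc γ (r • p) y = r • lc γ p y :=
  LinearMap.congr_fun
    (map_smul (Finsupp.linearCombination (O_D.obj.obj V) fun a => locApp γ (V := V) a) r (asFinsupp p)) y

lemma lc_bs {V : Dᵒᵖ} (i : PUnit.{u + 1}) (a : V.unop ⟶ X) (y : ((fg O_D).obj F).obj V) :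
    lc γ (bs (one X) i a) y = locApp γ (V := V) ⟨i, a⟩ y :=
  LinearMap.congr_fun ((Finsupp.linearCombination_single (O_D.obj.obj V) (1 : O_D.obj.obj V) _).trans
    (one_smul _ (locApp γ (V := V) ⟨i, a⟩))) y

/-- A local map as a map on a tensor product with a representable module. -/
noncomputable def pairPre : (sigFree O_D (one X) ⊗ (fg O_D).obj F : P₀ O_D) ⟶ (fg O_D).obj (f.push.obj N) where
  app V := ModuleCat.MonoidalCategory.tensorLift (R := O_D.obj.obj V) (fun p y => lc γ p y)
    (fun p p' y => lc_add γ p p' y) (fun r p y => lc_smul γ r p y)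
    (fun p y y' => map_add (lc γ p) y y') (fun r p y => map_smul (lc γ p) r y)
  naturality {V V'} g := ModuleCat.MonoidalCategory.tensor_ext fun p y => by
    show lc γ (rs (sigFree O_D (one X)) g p) (rs ((fg O_D).obj F) g y) =
      rs ((fg O_D).obj (f.push.obj N)) g (lc γ p y)
    induction p using sigFree_induction with
    | zero =>
      refine ((congrArg (fun t => lc γ t (rs ((fg O_D).obj F) g y)) (map_zero _)).trans (lc_zero γ _)).trans ?_
      exact ((congrArg _ (lc_zero γ y)).trans (map_zero _)).symm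
    | add p q hp hq =>
      refine ((congrArg (fun t => lc γ t (rs ((fg O_D).obj F) g y)) (rs_add g p q)).trans (lc_add γ _ _ _)).trans ?_
      exact (congrArg₂ (· + ·) hp hq).trans ((congrArg _ (lc_add γ p q y)).trans (rs_add g _ _)).symm
    | smul r i a =>
      refine ((congrArg (fun t => lc γ t (rs ((fg O_D).obj F) g y))
        ((rs_smul g r _).trans (congrArg (fun t => _ • t) (rs_bs (one X) g i a)))).trans (lc_smul γ _ _ _)).trans ?_
      refine Eq.trans ?_ ((congrArg _ (lc_smul γ r _ y)).trans (rs_smul g _ _)).symm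
      refine congrArg (fun t => _ • t) ?_
      refine (lc_bs γ i _ _).trans ?_
      refine Eq.trans ?_ (congrArg (fun t => rs ((fg O_D).obj (f.push.obj N)) g t) (lc_bs γ i a y)).symm
      exact app_rs ((fg (O_D.over X)).map γ)
        (Over.homMk g.unop rfl : Over.mk (g.unop ≫ a) ⟶ Over.mk a).op y

lemma pairPre_tm {V : Dᵒᵖ} (a : V.unop ⟶ X) (y : ((fg O_D).obj F).obj V) :
    (pairPre γ).app V (tm (R := O_D.obj) (bs (one X) PUnit.unit a) y) = locApp γ (V := V) ⟨PUnit.unit, a⟩ y :=
  lc_bs γ PUnit.unit a y

/-- A local map on the tensor product of sheaves. -/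
noncomputable def pairSh : ten ((sh O_D).obj (sigFree O_D (one X))) F ⟶ f.push.obj N :=
  @inv _ _ _ _ ((sh O_D).map ((shAdj O_D).unit.app (sigFree O_D (one X)) ▷ (fg O_D).obj F))
      (isIso_sh_map_unit_whiskerRight _ _) ≫
    ((shAdj O_D).homEquiv _ _).symm (pairPre γ)

lemma pairSh_shT {V : Dᵒᵖ} (a : V.unop ⟶ X) (y : ((fg O_D).obj F).obj V) :
    ((fg O_D).map (pairSh γ)).app V (shT _ _ (sb (O := O_D) (one X) PUnit.unit a) y) =
      locApp γ (V := V) ⟨PUnit.unit, a⟩ y := by
  let u := (sh O_D).map ((shAdj O_D).unit.app (sigFree O_D (one X)) ▷ (fg O_D).obj F)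
  have := isIso_sh_map_unit_whiskerRight (J := K) (O := O_D) (sigFree O_D (one X)) ((fg O_D).obj F)
  have e1 : ((fg O_D).map u).app V (shu _ (tm (R := O_D.obj) (bs (one X) PUnit.unit a) y)) =
      shT _ _ (sb (O := O_D) (one X) PUnit.unit a) y :=
    (shu_naturality _ _).trans (congrArg (fun t => shu _ t) (whiskerRight_tm _ _ _))
  refine (congrArg (fun t => ((fg O_D).map (pairSh γ)).app V t) e1.symm).trans ?_
  refine (congrArg (fun k => ((fg O_D).map k).app V (shu _ (tm (R := O_D.obj) (bs (one X) PUnit.unit a) y)))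
    (IsIso.hom_inv_id_assoc u (((shAdj O_D).homEquiv _ _).symm (pairPre γ)))).trans ?_
  refine (shu_desc _ _).trans ?_
  exact (congrArg (fun k : (sigFree O_D (one X) ⊗ (fg O_D).obj F : P₀ O_D) ⟶ (fg O_D).obj (f.push.obj N) =>
    k.app V (tm (R := O_D.obj) (bs (one X) PUnit.unit a) y)) (Equiv.apply_symm_apply _ _)).trans (pairPre_tm γ a y)

/-- A local map on the tensor product of inverse images. -/
noncomputable def pairPull : ten (f.pull.obj ((sh O_D).obj (sigFree O_D (one X)))) (f.pull.obj F) ⟶ N :=
  @inv _ _ _ _ (pullTensorHom f _ F) (isIso_pullTensorHom f _ F) ≫ (f.adj.homEquiv _ _).symm (pairSh γ)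

/-- The pulled back generator of the representable module. -/
noncomputable abbrev genX : Sc (f.pull.obj ((sh O_D).obj (sigFree O_D (one X)))) (f.fn.obj X) :=
  pu f _ (U := op X) (sb (O := O_D) (one X) (X := op X) PUnit.unit (𝟙 X))

lemma pairPull_pu (y : Sc F X) :
    ((fg O).map (pairPull γ)).app (op (f.fn.obj X)) (shT _ _ (genX (f := f)) (pu f F (U := op X) y)) =
      locApp γ (V := op X) ⟨PUnit.unit, 𝟙 X⟩ y := by
  let p := pullTensorHom f ((sh O_D).obj (sigFree O_D (one X))) F
  have := isIso_pullTensorHom f ((sh O_D).obj (sigFree O_D (one X))) F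
  refine (congrArg (fun t => ((fg O).map (pairPull γ)).app (op (f.fn.obj X)) t)
    (pullTensorHom_pu f _ F (U := op X) _ y).symm).trans ?_
  refine (congrArg (fun k => ((fg O).map k).app (op (f.fn.obj X)) (pu f _ (U := op X) _))
    (IsIso.hom_inv_id_assoc p ((f.adj.homEquiv _ _).symm (pairSh γ)))).trans ?_
  refine (adj_homEquiv_app f _ _).symm.trans ?_
  rw [Equiv.apply_symm_apply]
  exact pairSh_shT γ (V := op X) (𝟙 X) y

/-- A local map, extended to the inverse image, on sections. -/
noncomputable def pairLin {W : C} (a : W ⟶ f.fn.obj X) : Sc (f.pull.obj F) W →ₗ[O.obj.obj (op W)] Sc N W where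
  toFun t := ((fg O).map (pairPull γ)).app (op W) (shT _ _ (rs ((fg O).obj _) a.op (genX (f := f) (X := X))) t)
  map_add' t t' := (congrArg _ (shT_add_right _ t t')).trans (map_add _ _ _)
  map_smul' r t := (congrArg _ (shT_smul_right r _ t)).trans (map_smul _ _ _)

/-- A local map, extended to the inverse image. -/
noncomputable def pairRestr :
    (ModSite.restr O (f.fn.obj X)).obj (f.pull.obj F) ⟶ (ModSite.restr O (f.fn.obj X)).obj N :=
  ⟨{ app := fun W => ModuleCat.ofHom (R := O.obj.obj (op W.unop.left)) (X := Sc (f.pull.obj F) W.unop.left)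
      (Y := Sc N W.unop.left) (pairLin γ W.unop.hom)
     naturality := fun {W W'} g => ModuleCat.hom_ext (LinearMap.ext fun t => by
      show ((fg O).map (pairPull γ)).app (op W'.unop.left)
          (shT _ _ (rs ((fg O).obj _) W'.unop.hom.op (genX (f := f) (X := X)))
            (rs ((fg O).obj (f.pull.obj F)) g.unop.left.op t)) =
        rs ((fg O).obj N) g.unop.left.op (((fg O).map (pairPull γ)).app (op W.unop.left)
          (shT _ _ (rs ((fg O).obj _) W.unop.hom.op (genX (f := f) (X := X))) t))
      refine Eq.trans ?_ (app_rs ((fg O).map (pairPull γ)) g.unop.left.op _)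
      refine congrArg (fun z => ((fg O).map (pairPull γ)).app (op W'.unop.left) z) (Eq.trans ?_ (rs_shT _ _ _).symm)
      refine congrArg (fun z => shT _ _ z _) ?_
      exact (congrArg (fun a : W'.unop.left ⟶ f.fn.obj X => rs ((fg O).obj _) a.op (genX (f := f) (X := X)))
        (Over.w g.unop).symm).trans (rs_comp W.unop.hom.op g.unop.left.op _)) }⟩

lemma pairRestr_pu (y : Sc F X) :
    ((fg (O.over (f.fn.obj X))).map (pairRestr γ)).app (op (topO (f.fn.obj X))) (pu f F (U := op X) y) =
      (((fg (O_D.over X)).map γ).app (op (topO X)) y : Sc N (f.fn.obj X)) := by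
  refine Eq.trans ?_ (pairPull_pu γ y)
  exact congrArg (fun z => ((fg O).map (pairPull γ)).app (op (f.fn.obj X))
    (shT _ _ z (pu f F (U := op X) y))) (rs_id _)

end

section Main

variable (f) {F : ModSite.Mod O_D} {G R : Type u} (s : G → Sc ((ModSite.restr O_D X).obj F) (topO X))
  (r : R → Sc (SheafOfModules.free (R := ModSite.ringSh (O_D.over X)) G) (topO X))

/-- The pulled back relations. -/
noncomputable def puRel (k : R) : Sc (free' f X G) (topO (f.fn.obj X)) := (exists_eta_eq f X G (r k)).choose

lemma eta_puRel (k : R) : eta f X (free' f X G) (puRel f r k) =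
    ((fg (O_D.over X)).map (liftFree f X G)).app (op (topO X)) (r k) :=
  (exists_eta_eq f X G (r k)).choose_spec

variable {s r}

theorem puRel_comp (hw : freeTo _ r ≫ freeTo _ s = 0) :
    freeTo _ (puRel f r) ≫ freeTo ((ModSite.restr O (f.fn.obj X)).obj (f.pull.obj F)) (puTop f s) = 0 := by
  let γ' := freeTo ((ModSite.restr O (f.fn.obj X)).obj (f.pull.obj F)) (puTop f s)
  let Ψ : ext' f X (free' f X G) ⟶ f.pull.obj F := ((ModSite.extZeroAdj O (f.fn.obj X)).homEquiv _ _).symm γ'
  have hΨ : ∀ x, ((fg O).map Ψ).app (op (f.fn.obj X)) (eta f X (free' f X G) x) =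
      (((fg (O.over (f.fn.obj X))).map γ').app (op (topO _)) x : Sc (f.pull.obj F) (f.fn.obj X)) := fun x =>
    congrArg (fun k => ((fg (O.over (f.fn.obj X))).map k).app (op (topO _)) x)
      (((ModSite.extZeroAdj O (f.fn.obj X)).homEquiv_unit _ _ Ψ).symm.trans (Equiv.apply_symm_apply _ _))
  have hv : liftFree f X G ≫ (ModSite.restr O_D X).map (f.push.map Ψ) =
      freeTo _ s ≫ (ModSite.restr O_D X).map (f.adj.unit.app F) := free_hom_ext fun i => by
    show ((fg O).map Ψ).app (op (f.fn.obj X)) (((fg (O_D.over X)).map (liftFree f X G)).app (op (topO X)) (bt i)) =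
      pu f F (U := op X) (((fg (O_D.over X)).map (freeTo _ s)).app (op (topO X)) (bt i))
    refine (congrArg (fun t => ((fg O).map Ψ).app (op (f.fn.obj X)) t) (freeTo_bt _ _ i)).trans ?_
    refine (hΨ (bt i)).trans ((freeTo_bt _ _ i).trans ?_)
    exact (congrArg (fun t => pu f F (U := op X) t) (freeTo_bt _ s i)).symm
  refine free_hom_ext fun k => ?_
  show ((fg (O.over (f.fn.obj X))).map γ').app (op (topO _))
    (((fg (O.over (f.fn.obj X))).map (freeTo _ (puRel f r))).app (op (topO _)) (bt k)) = 0
  refine (congrArg (fun t => ((fg (O.over (f.fn.obj X))).map γ').app (op (topO _)) t) (freeTo_bt _ _ k)).trans ?_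
  refine (hΨ _).symm.trans ?_
  refine (congrArg (fun t => ((fg O).map Ψ).app (op (f.fn.obj X)) t) (eta_puRel f r k)).trans ?_
  refine (congrArg (fun t => ((fg (O_D.over X)).map t).app (op (topO X)) (r k)) hv).trans ?_
  have h0 : ((fg (O_D.over X)).map (freeTo _ s)).app (op (topO X)) (r k) = 0 :=
    (congrArg (fun t => ((fg (O_D.over X)).map (freeTo _ s)).app (op (topO X)) t) (freeTo_bt _ r k)).symm.trans
      (congrArg (fun t => ((fg (O_D.over X)).map t).app (op (topO X)) (bt k)) hw)
  exact (congrArg (fun t => pu f F (U := op X) t) h0).trans (pu_zero f F)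

theorem isIso_cokernel_desc (hw : freeTo _ r ≫ freeTo _ s = 0)
    (hc : IsColimit (CokernelCofork.ofπ (freeTo _ s) hw)) :
    IsIso (cokernel.desc _ _ (puRel_comp f hw)) := by
  let π := cokernel.π (freeTo _ (puRel f r))
  let N := cokernel (freeTo _ (puRel f r))
  let q := cokernel.desc _ _ (puRel_comp f hw)
  have : Epi (freeTo _ s) := Cofork.IsColimit.epi hc
  have := epi_freeTo (gen_pull f s (gen_of_epi_freeTo s))
  have : Epi q := epi_of_epi_fac (cokernel.π_desc _ _ (puRel_comp f hw))
  let vN := liftFree f X G ≫ (ModSite.restr O_D X).map (f.push.map ((ModSite.extZero O (f.fn.obj X)).map π))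
  have hvN : freeTo _ r ≫ vN = 0 := free_hom_ext fun k => by
    show ((fg O).map ((ModSite.extZero O (f.fn.obj X)).map π)).app (op (f.fn.obj X))
      (((fg (O_D.over X)).map (liftFree f X G)).app (op (topO X))
        (((fg (O_D.over X)).map (freeTo _ r)).app (op (topO X)) (bt k))) = 0
    refine (congrArg (fun t => ((fg O).map ((ModSite.extZero O (f.fn.obj X)).map π)).app (op (f.fn.obj X)) t)
      ((congrArg (fun t => ((fg (O_D.over X)).map (liftFree f X G)).app (op (topO X)) t) (freeTo_bt _ r k)).trans
        (eta_puRel f r k).symm)).trans ?_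
    refine (eta_naturality f X π _).trans ?_
    refine (congrArg (fun t => eta f X N t) ?_).trans (map_zero _)
    refine (congrArg (fun t => ((fg (O.over (f.fn.obj X))).map π).app (op (topO _)) t) (freeTo_bt _ _ k)).symm.trans ?_
    exact congrArg (fun t => ((fg (O.over (f.fn.obj X))).map t).app (op (topO _)) (bt k))
      (cokernel.condition (freeTo _ (puRel f r)))
  obtain ⟨γ, hγ⟩ := CokernelCofork.IsColimit.desc' hc vN hvN
  have hγ' : freeTo _ s ≫ γ = vN := hγ
  have hq : q ≫ pairRestr γ = (ModSite.extZeroAdj O (f.fn.obj X)).unit.app N := by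
    refine (cancel_epi π).1 (free_hom_ext fun i => ?_)
    show ((fg (O.over (f.fn.obj X))).map (pairRestr γ)).app (op (topO _))
        (((fg (O.over (f.fn.obj X))).map (π ≫ q)).app (op (topO _)) (bt i)) =
      eta f X N (((fg (O.over (f.fn.obj X))).map π).app (op (topO _)) (bt i))
    refine (congrArg (fun t => ((fg (O.over (f.fn.obj X))).map (pairRestr γ)).app (op (topO _)) t)
      ((congrArg (fun t => ((fg (O.over (f.fn.obj X))).map t).app (op (topO _)) (bt i))
        (cokernel.π_desc _ _ (puRel_comp f hw))).trans (freeTo_bt _ (puTop f s) i))).trans ?_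
    refine (pairRestr_pu γ (s i)).trans ?_
    refine (congrArg (fun t => ((fg (O_D.over X)).map γ).app (op (topO X)) t) (freeTo_bt _ s i)).symm.trans ?_
    refine (congrArg (fun t => ((fg (O_D.over X)).map t).app (op (topO X)) (bt i)) hγ').trans ?_
    refine (congrArg (fun t => ((fg O).map ((ModSite.extZero O (f.fn.obj X)).map π)).app (op (f.fn.obj X)) t)
      (freeTo_bt _ _ i)).trans ?_
    exact eta_naturality f X π (bt i)
  have := mono_extZero_unit N
  have : Mono q := mono_of_mono_fac hq
  exact isIso_of_mono_of_epi q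

/-- The presentation of the inverse image. -/
noncomputable def pullPresentation (hw : freeTo _ r ≫ freeTo _ s = 0)
    (hc : IsColimit (CokernelCofork.ofπ (freeTo _ s) hw)) :
    ((f.pull.obj F).over (f.fn.obj X)).Presentation :=
  SheafOfModules.presentationOfIsCokernelFree (freeTo _ (puRel f r))
    (freeTo ((ModSite.restr O (f.fn.obj X)).obj (f.pull.obj F)) (puTop f s)) (puRel_comp f hw)
    ((cokernelIsCokernel _).ofIsoColimit
      (Cofork.ext (@asIso _ _ _ _ _ (isIso_cokernel_desc f hw hc)) (cokernel.π_desc _ _ _)))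

end Main

end

end Groth.Agent.DSites.ModLoc
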