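import Groth.Agent.ModPull.Tensor
import Mathlib.Algebra.Category.ModuleCat.Sheaf.LocallyFree

/-!
# Locally generated sheaves of modules, by sections
-/

universe u

set_option autoImplicit false

open CategoryTheory CategoryTheory.Limits Opposite
open Groth.Agent.ModTensor Groth.Agent.ModPull

namespace Groth.Agent.DSites.ModLoc

variable {C : Type u} [SmallCategory C] {J : GrothendieckTopology C} {O : Sheaf J CommRingCat.{u}}

/-- The sections of a sheaf of modules over an object. -/
abbrev Sc (M : ModSite.Mod O) (W : C) : Type u := ((fg O).obj M).obj (op W)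

lemma isComb_smul {R M : Type*} [CommRing R] [AddCommGroup M] [Module R M] {γ : Type*} {gen : γ → M}
    {m : M} (r : R) (h : IsComb (R := R) gen m) : IsComb (R := R) gen (r • m) := by
  obtain ⟨n, x, c, rfl⟩ := h
  exact ⟨n, x, fun j => r * c j, by simp [Finset.smul_sum, smul_smul]⟩

lemma isComb_sum {R M : Type*} [CommRing R] [AddCommGroup M] [Module R M] {γ : Type*} {gen : γ → M}
    {κ : Type*} (t : Finset κ) (m : κ → M) (h : ∀ k ∈ t, IsComb (R := R) gen (m k)) :
    IsComb (R := R) gen (∑ k ∈ t, m k) :=
  Finset.sum_induction _ _ (fun _ _ ha hb => ha.add hb) IsComb.zero h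

lemma isComb_gen {R M : Type*} [CommRing R] [AddCommGroup M] [Module R M] {γ : Type*} (gen : γ → M)
    (x : γ) : IsComb (R := R) gen (gen x) :=
  IsComb.of_eq (one_smul R (gen x)).symm (IsComb.gen_smul 1 x)

lemma isComb_induction {R M : Type*} [CommRing R] [AddCommGroup M] [Module R M] {γ : Type*} {gen : γ → M}
    {motive : M → Prop} (zero : motive 0) (add : ∀ a b, motive a → motive b → motive (a + b))
    (smul : ∀ (r : R) (x : γ), motive (r • gen x)) {m : M} (h : IsComb (R := R) gen m) : motive m := by
  obtain ⟨n, x, c, rfl⟩ := h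
  exact Finset.sum_induction _ motive add zero fun j _ => smul _ _

variable {ι : Type u} {U : ι → C}

/-- The restrictions of given sections to an object. -/
noncomputable def gens (M : ModSite.Mod O) (s : ∀ i, Sc M (U i)) (V : C) (q : (sigYon U).obj (op V)) : Sc M V :=
  rs ((fg O).obj M) q.2.op (s q.1)

/-- Sections generate a module: locally, all sections are combinations of their restrictions. -/
def Gen (M : ModSite.Mod O) (s : ∀ i, Sc M (U i)) : Prop :=
  ∀ (W : C) (z : Sc M W), Locally J W (fun V g =>
    IsComb (R := O.obj.obj (op V)) (gens M s V) (rs ((fg O).obj M) g.op z))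

lemma rs_gens (M : ModSite.Mod O) (s : ∀ i, Sc M (U i)) {V V' : C} (g : V' ⟶ V)
    (q : (sigYon U).obj (op V)) :
    rs ((fg O).obj M) g.op (gens M s V q) = gens M s V' ⟨q.1, g ≫ q.2⟩ :=
  (rs_comp q.2.op g.op (s q.1)).symm

lemma Gen.hom_ext {M N : ModSite.Mod O} {s : ∀ i, Sc M (U i)} (hs : Gen M s) {a b : M ⟶ N}
    (h : ∀ i, ((fg O).map a).app (op (U i)) (s i) = ((fg O).map b).app (op (U i)) (s i)) : a = b := by
  refine (fg O).map_injective (PresheafOfModules.hom_ext fun W => ModuleCat.hom_ext (LinearMap.ext fun z => ?_))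
  refine eq_of_locally' N (W := W.unop) ((hs W.unop z).mono fun V g hg => ?_)
  refine (app_rs ((fg O).map a) g.op z).symm.trans (Eq.trans ?_ (app_rs ((fg O).map b) g.op z))
  refine isComb_induction (motive := fun t => ((fg O).map a).app (op V) t = ((fg O).map b).app (op V) t)
    ((map_zero _).trans (map_zero _).symm)
    (fun x y hx hy => (map_add _ x y).trans ((congrArg₂ (· + ·) hx hy).trans (map_add _ x y).symm))
    (fun r q => ?_) hg
  refine (map_smul _ r _).trans (Eq.trans ?_ (map_smul _ r _).symm)
  refine congrArg (fun t => r • t) ((app_rs ((fg O).map a) q.2.op (s q.1)).trans ?_)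
  exact (congrArg (fun t => rs ((fg O).obj N) q.2.op t) (h q.1)).trans
    (app_rs ((fg O).map b) q.2.op (s q.1)).symm

lemma gen_of_hom_ext {M : ModSite.Mod O} (s : ∀ i, Sc M (U i))
    (h : ∀ ⦃N : ModSite.Mod O⦄ (a b : M ⟶ N),
      (∀ i, ((fg O).map a).app (op (U i)) (s i) = ((fg O).map b).app (op (U i)) (s i)) → a = b) :
    Gen M s := by
  let Φ : (sh O).obj (sigFree O U) ⟶ M := ((shAdj O).homEquiv _ _).symm (sigDesc s)
  have hΦ : ∀ (V : C) (p : (sigFree O U).obj (op V)),
      ((fg O).map Φ).app (op V) (shu _ p) = (sigDesc s).app (op V) p := fun V p =>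
    (shu_desc Φ p).trans (congrArg (fun k : sigFree O U ⟶ (fg O).obj M => k.app (op V) p) (Equiv.apply_symm_apply _ _))
  have hbs : ∀ (V : C) (i : ι) (a : V ⟶ U i),
      ((fg O).map Φ).app (op V) (shu _ (bs (O := O) U (X := op V) i a)) = rs ((fg O).obj M) a.op (s i) :=
    fun V i a => (hΦ V _).trans (sigDesc_bs s i a)
  have : Epi Φ := ⟨fun {N} a b e => h a b fun i => by
    have e1 := congrArg (fun k => ((fg O).map k).app (op (U i)) (shu _ (bs (O := O) U (X := op (U i)) i (𝟙 _)))) e
    have e2 := (hbs (U i) i (𝟙 _)).trans (rs_id (P := (fg O).obj M) (s i))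
    exact ((congrArg (fun t => ((fg O).map a).app (op (U i)) t) e2).symm.trans e1).trans
      (congrArg (fun t => ((fg O).map b).app (op (U i)) t) e2)⟩
  intro W z
  refine (locally_exists_app_eq Φ z).bind fun V g ⟨m, hm⟩ => ?_
  refine (locally_exists_shu (sigFree O U) m).mono fun V' g' ⟨p, hp⟩ => ?_
  have e : ((fg O).map Φ).app (op V') (shu _ p) = rs ((fg O).obj M) (g' ≫ g).op z := by
    refine (congrArg (fun t => ((fg O).map Φ).app (op V') t) hp).trans ((app_rs ((fg O).map Φ) g'.op m).trans ?_)
    exact (congrArg (fun t => rs ((fg O).obj M) g'.op t) hm).trans (rs_comp g.op g'.op z).symm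
  refine IsComb.of_eq e.symm ?_
  clear hp e
  induction p using sigFree_induction with
  | zero => exact IsComb.of_eq ((congrArg _ (shu_zero _)).trans (map_zero _)) IsComb.zero
  | add p q hp hq => exact IsComb.of_eq ((congrArg _ (shu_add _ p q)).trans (map_add _ _ _)) (hp.add hq)
  | smul c i a =>
    refine IsComb.of_eq (((congrArg _ (shu_smul _ c _)).trans (map_smul _ c _)).trans
      (congrArg (fun t => c • t) (hbs V' i a))) ?_
    exact IsComb.gen_smul c (⟨i, a⟩ : (sigYon U).obj (op V'))

/-- A section that is locally in the image of a monomorphism is in the image. -/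
lemma exists_app_eq_of_locally {A B : ModSite.Mod O} (φ : A ⟶ B) [Mono φ] {W : C} (z : Sc B W)
    (h : Locally J W (fun V g => ∃ a : Sc A V, ((fg O).map φ).app (op V) a = rs ((fg O).obj B) g.op z)) :
    ∃ a : Sc A W, ((fg O).map φ).app (op W) a = z := by
  let S := ShortComplex.mk φ (cokernel.π φ) (cokernel.condition φ)
  have hS : S.ShortExact :=
    { exact := S.exact_of_g_is_cokernel (cokernelIsCokernel φ)
      mono_f := ‹_›
      epi_g := inferInstanceAs (Epi (cokernel.π φ)) }
  refine exists_app_eq_of_exact hS z (eq_of_locally' _ (h.mono fun V g ⟨a, ha⟩ => ?_))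
  refine (app_rs ((fg O).map (cokernel.π φ)) g.op z).symm.trans (Eq.trans ?_ (map_zero _).symm)
  refine (congrArg (fun t => ((fg O).map (cokernel.π φ)).app (op V) t) ha).symm.trans ?_
  exact congrArg (fun k => ((fg O).map k).app (op V) a) (cokernel.condition φ)

section Over

variable {X : C}

/-- A property holding locally over the slice site holds locally on the site. -/
lemma locally_left {W : Over X} {P : ∀ ⦃V : Over X⦄, (V ⟶ W) → Prop} (h : Locally (J.over X) W P) :
    Locally J W.left (fun V g => P (Over.homMk g rfl : Over.mk (g ≫ W.hom) ⟶ W)) := by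
  obtain ⟨S, hS, hP⟩ := h
  refine ⟨Sieve.overEquiv W S, (J.mem_over_iff S).1 hS, fun V g hg => hP _ ?_⟩
  exact (Sieve.overEquiv_iff S g).1 hg

/-- A property holding locally on the site holds locally on the slice site. -/
lemma locally_over {W : Over X} {P : ∀ ⦃V : C⦄, (V ⟶ W.left) → Prop} (h : Locally J W.left P) :
    Locally (J.over X) W (fun V g => P g.left) := by
  obtain ⟨S, hS, hP⟩ := h
  exact ⟨(Sieve.overEquiv W).symm S, J.overEquiv_symm_mem_over W S hS,
    fun V g hg => hP _ ((Sieve.overEquiv_symm_iff S g).1 hg)⟩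

/-- The terminal object of a slice. -/
abbrev topO (X : C) : Over X := Over.mk (𝟙 X)

/-- The map to the terminal object. -/
abbrev toTop (W : Over X) : W ⟶ topO X := Over.homMk W.hom (Category.comp_id _)

lemma toTop_unique {W : Over X} (a : W ⟶ topO X) : a = toTop W :=
  Over.OverMorphism.ext ((Category.comp_id a.left).symm.trans (Over.w a))

/-- A global section of a module on a slice, from its value at the top. -/
noncomputable def topSec (M : ModSite.Mod (O.over X)) (a : Sc M (topO X)) : M.sections :=
  ⟨fun W => rs ((fg (O.over X)).obj M) (toTop W.unop).op a, fun {V W} g => by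
    refine (rs_comp (P := (fg (O.over X)).obj M) (toTop V.unop).op g a).symm.trans ?_
    exact congrArg (fun t : W.unop ⟶ topO X => rs ((fg (O.over X)).obj M) t.op a)
      (toTop_unique (g.unop ≫ toTop V.unop))⟩

/-- The value at the top of a global section. -/
abbrev secTop {M : ModSite.Mod (O.over X)} (s : M.sections) : Sc M (topO X) := s.val (op (topO X))

lemma secTop_topSec (M : ModSite.Mod (O.over X)) (a : Sc M (topO X)) : secTop (topSec M a) = a := by
  show rs ((fg (O.over X)).obj M) (toTop (topO X)).op a = a
  rw [← toTop_unique (𝟙 (topO X))]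
  exact rs_id (P := (fg (O.over X)).obj M) a

lemma sections_ext {M : ModSite.Mod (O.over X)} {s t : M.sections} (h : secTop s = secTop t) : s = t :=
  Subtype.ext (funext fun W => ((s.property (toTop W.unop).op).symm.trans
    (congrArg (fun z => (M.val.presheaf.map (toTop W.unop).op) z) h)).trans (t.property (toTop W.unop).op))

lemma free_hom_ext {M : ModSite.Mod (O.over X)} {I : Type u} {a b : SheafOfModules.free I ⟶ M}
    (h : ∀ i, secTop (SheafOfModules.sectionsMap a (SheafOfModules.freeSection i)) =
      secTop (SheafOfModules.sectionsMap b (SheafOfModules.freeSection i))) : a = b :=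
  (SheafOfModules.freeHomEquiv M).injective (funext fun i => sections_ext (h i))

/-- A map out of a free module, from values at the top. -/
noncomputable def freeTo (M : ModSite.Mod (O.over X)) {I : Type u} (a : I → Sc M (topO X)) :
    SheafOfModules.free I ⟶ M :=
  (SheafOfModules.freeHomEquiv M).symm fun i => topSec M (a i)

/-- The basis of a free module, at the top. -/
noncomputable abbrev bt {I : Type u} (i : I) : Sc (SheafOfModules.free (R := ModSite.ringSh (O.over X)) I) (topO X) :=
  secTop (SheafOfModules.freeSection i)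

lemma freeTo_bt (M : ModSite.Mod (O.over X)) {I : Type u} (a : I → Sc M (topO X)) (i : I) :
    ((fg (O.over X)).map (freeTo M a)).app (op (topO X)) (bt i) = a i :=
  (congrArg secTop (SheafOfModules.sectionsMap_freeHomEquiv_symm_freeSection (fun i => topSec M (a i)) i)).trans
    (secTop_topSec M (a i))

/-- The values at the top of generating sections. -/
noncomputable abbrev topGens {M : ModSite.Mod (O.over X)} (σ : M.GeneratingSections) (i : σ.I) :
    Sc M (topO X) := secTop (σ.s i)

lemma gen_of_epi_freeTo {M : ModSite.Mod (O.over X)} {I : Type u} (a : I → Sc M (topO X))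
    [Epi (freeTo M a)] : Gen (U := fun _ : I => topO X) M a := by
  refine gen_of_hom_ext a fun N k l h => (cancel_epi (freeTo M a)).1 (free_hom_ext fun i => ?_)
  exact ((congrArg (fun t => ((fg (O.over X)).map k).app (op (topO X)) t) (freeTo_bt M a i)).trans (h i)).trans
    (congrArg (fun t => ((fg (O.over X)).map l).app (op (topO X)) t) (freeTo_bt M a i)).symm

lemma freeTo_secTop {M : ModSite.Mod (O.over X)} {I : Type u} (s : I → M.sections) :
    freeTo M (fun i => secTop (s i)) = (SheafOfModules.freeHomEquiv M).symm s :=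
  congrArg (fun t : I → M.sections => (SheafOfModules.freeHomEquiv M).symm t)
    (funext fun i => sections_ext (secTop_topSec M (secTop (s i))))

lemma gen_topGens {M : ModSite.Mod (O.over X)} (σ : M.GeneratingSections) :
    Gen (U := fun _ : σ.I => topO X) M (topGens σ) := by
  have : Epi (freeTo M (topGens σ)) := by rw [freeTo_secTop]; exact σ.epi
  exact gen_of_epi_freeTo _

lemma gen_bt (I : Type u) :
    Gen (U := fun _ : I => topO X) (SheafOfModules.free (R := ModSite.ringSh (O.over X)) I) bt :=
  gen_topGens (SheafOfModules.free.generatingSections I)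

lemma epi_freeTo {M : ModSite.Mod (O.over X)} {I : Type u} {a : I → Sc M (topO X)}
    (h : Gen (U := fun _ : I => topO X) M a) : Epi (freeTo M a) :=
  ⟨fun {N} k l e => h.hom_ext fun i => by
    have e1 := congrArg (fun t => ((fg (O.over X)).map t).app (op (topO X)) (bt i)) e
    exact ((congrArg (fun t => ((fg (O.over X)).map k).app (op (topO X)) t) (freeTo_bt M a i)).symm.trans e1).trans
      (congrArg (fun t => ((fg (O.over X)).map l).app (op (topO X)) t) (freeTo_bt M a i))⟩

end Over

end Groth.Agent.DSites.ModLoc
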