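import Groth.Agent.FMod90.Pres
import Groth.Prelude.Def_ModSite2
import Mathlib.Topology.Sheaves.Points
import Mathlib.Order.CompleteLattice.Finset
import Groth.Agent.ModPull.Sections

/-!
# Germs of sections of sheaves of modules on a ringed space
-/

set_option autoImplicit false

universe u

open CategoryTheory CategoryTheory.Limits Opposite TopologicalSpace

namespace Groth.Agent.DSites.ModLoc.Top

open FMod90

variable {X : TopCat.{u}} {O : Sheaf (Opens.grothendieckTopology X) CommRingCat.{u}}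
  {M N : ModSite.Mod O} {U V W : Opens X} {x : X} {n m : ℕ}

/-- The point of the site of opens. -/
noncomputable abbrev pt (x : X) : GrothendieckTopology.Point.{u} (Opens.grothendieckTopology X) :=
  Opens.pointGrothendieckTopology x

/-- The germ of a section. -/
noncomputable def gm (M : ModSite.Mod O) (hx : x ∈ U) (s : Sec M U) : ModSite.stalkAb (pt x) M :=
  ModSite.germ (pt x) M U ⟨⟨hx⟩⟩ s

/-- The germ of a function. -/
noncomputable def gr (hx : x ∈ U) (a : Ring O U) : ModSite.stalkRing (pt x) O :=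
  ModSite.germRing (pt x) U ⟨⟨hx⟩⟩ a

theorem gm_res (h : V ≤ U) (hx : x ∈ V) (s : Sec M U) : gm M hx (res M h s) = gm M (h hx) s :=
  (pt x).toPresheafFiber_w_apply (homOfLE h) ⟨⟨hx⟩⟩ (ModSite.toAb M).obj s

theorem gr_rres (h : V ≤ U) (hx : x ∈ V) (a : Ring O U) : gr hx (rres O h a) = gr (h hx) a :=
  (pt x).toPresheafFiber_w_apply (homOfLE h) ⟨⟨hx⟩⟩ O.obj a

theorem gm_add (hx : x ∈ U) (s t : Sec M U) : gm M hx (s + t) = gm M hx s + gm M hx t :=
  map_add ((pt x).toPresheafFiber U ⟨⟨hx⟩⟩ (ModSite.toAb M).obj).hom s t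

theorem gm_zero (hx : x ∈ U) : gm M hx (0 : Sec M U) = 0 :=
  map_zero ((pt x).toPresheafFiber U ⟨⟨hx⟩⟩ (ModSite.toAb M).obj).hom

theorem gm_sum (hx : x ∈ U) {κ : Type*} (t : Finset κ) (s : κ → Sec M U) :
    gm M hx (∑ i ∈ t, s i) = ∑ i ∈ t, gm M hx (s i) :=
  map_sum ((pt x).toPresheafFiber U ⟨⟨hx⟩⟩ (ModSite.toAb M).obj).hom s t

theorem gm_smul (hx : x ∈ U) (a : Ring O U) (s : Sec M U) : gm M hx (a • s) = gr hx a • gm M hx s :=
  ModSite.germ_smul (pt x) M U ⟨⟨hx⟩⟩ a s

theorem gr_zero (hx : x ∈ U) : gr (O := O) hx 0 = 0 :=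
  map_zero ((pt x).toPresheafFiber U ⟨⟨hx⟩⟩ O.obj).hom

theorem gm_comb (s : Fin n → Sec M U) (h : V ≤ U) (hx : x ∈ V) (a : Fin n → Ring O V) :
    gm M hx (comb s h a) = ∑ i, gr hx (a i) • gm M (h hx) (s i) := by
  rw [comb, gm_sum]
  exact Finset.sum_congr rfl fun i _ => by rw [gm_smul, gm_res]

theorem exists_gm_eq (m : ModSite.stalkAb (pt x) M) :
    ∃ (U : Opens X) (hx : x ∈ U) (s : Sec M U), gm M hx s = m := by
  obtain ⟨U, ⟨⟨hx⟩⟩, s, hs⟩ := (pt x).toPresheafFiber_jointly_surjective (P := (ModSite.toAb M).obj) m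
  exact ⟨U, hx, s, hs⟩

theorem exists_gr_eq (r : ModSite.stalkRing (pt x) O) :
    ∃ (U : Opens X) (hx : x ∈ U) (a : Ring O U), gr hx a = r := by
  obtain ⟨U, ⟨⟨hx⟩⟩, a, ha⟩ := (pt x).toPresheafFiber_jointly_surjective (P := O.obj) r
  exact ⟨U, hx, a, ha⟩

theorem exists_res_eq (hx : x ∈ U) {s t : Sec M U} (h : gm M hx s = gm M hx t) :
    ∃ (W : Opens X) (hW : W ≤ U), x ∈ W ∧ res M hW s = res M hW t := by
  obtain ⟨W, g, ⟨⟨hy⟩⟩, -, e⟩ := ((pt x).toPresheafFiber_eq_iff' (P := (ModSite.toAb M).obj) U ⟨⟨hx⟩⟩ s t).1 h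
  exact ⟨W, leOfHom g, hy, e⟩

theorem exists_rres_eq (hx : x ∈ U) {a b : Ring O U} (h : gr hx a = gr hx b) :
    ∃ (W : Opens X) (hW : W ≤ U), x ∈ W ∧ rres O hW a = rres O hW b := by
  obtain ⟨W, g, ⟨⟨hy⟩⟩, -, e⟩ := ((pt x).toPresheafFiber_eq_iff' U ⟨⟨hx⟩⟩ a b).1 h
  exact ⟨W, leOfHom g, hy, e⟩

theorem stalkMap_gm (φ : M ⟶ N) (hx : x ∈ U) (s : Sec M U) :
    (ModSite.stalkMap (pt x) φ).hom (gm M hx s) = gm N hx (appL φ U s) :=
  (pt x).toPresheafFiber_naturality_apply ((SheafOfModules.toSheaf (ModSite.ringSh O)).map φ).hom U ⟨⟨hx⟩⟩ s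

/-- A common neighbourhood for finitely many conditions. -/
theorem near_forall {κ : Type*} [Finite κ] (hx : x ∈ U)
    (P : κ → ∀ W : Opens X, W ≤ U → Prop)
    (hP : ∀ k (W W' : Opens X) (hW : W ≤ U) (h : W' ≤ W), P k W hW → P k W' (h.trans hW))
    (h : ∀ k, ∃ (W : Opens X) (hW : W ≤ U), x ∈ W ∧ P k W hW) :
    ∃ (W : Opens X) (hW : W ≤ U), x ∈ W ∧ ∀ k, P k W hW := by
  classical
  have := Fintype.ofFinite κ
  choose Wk hWk hxk hPk using h
  refine ⟨U ⊓ Finset.univ.inf Wk, inf_le_left, ⟨hx, ?_⟩, fun k => ?_⟩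
  · have e : ∀ t : Finset κ, x ∈ t.inf Wk := fun t =>
      Finset.inf_induction (p := fun W : Opens X => x ∈ W) trivial (fun _ ha _ hb => ⟨ha, hb⟩) fun k _ => hxk k
    exact e _
  · exact hP k _ _ (hWk k) (inf_le_right.trans (Finset.inf_le (Finset.mem_univ k))) (hPk k)

/-- Finitely many germs are defined on a common neighbourhood. -/
theorem exists_rep {κ : Type*} [Finite κ] (hx : x ∈ U) (m : κ → ModSite.stalkAb (pt x) M) :
    ∃ (W : Opens X) (_ : W ≤ U) (hxW : x ∈ W) (s : κ → Sec M W), ∀ k, gm M hxW (s k) = m k := by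
  obtain ⟨W, hW, hxW, h⟩ := near_forall hx
    (fun k W _ => ∀ hxW : x ∈ W, ∃ s : Sec M W, gm M hxW s = m k)
    (fun k W W' _ h hP hxW' => by
      obtain ⟨s, hs⟩ := hP (h hxW')
      exact ⟨res M h s, (gm_res h hxW' s).trans hs⟩)
    (fun k => by
      obtain ⟨V, hxV, s, hs⟩ := exists_gm_eq (m k)
      exact ⟨U ⊓ V, inf_le_left, ⟨hx, hxV⟩, fun hW => ⟨res M inf_le_right s, (gm_res _ hW s).trans hs⟩⟩)
  choose s hs using fun k => h k hxW
  exact ⟨W, hW, hxW, s, hs⟩

/-- Finitely many germs of functions are defined on a common neighbourhood. -/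
theorem exists_rep_ring {κ : Type*} [Finite κ] (hx : x ∈ U) (r : κ → ModSite.stalkRing (pt x) O) :
    ∃ (W : Opens X) (_ : W ≤ U) (hxW : x ∈ W) (a : κ → Ring O W), ∀ k, gr hxW (a k) = r k := by
  obtain ⟨W, hW, hxW, h⟩ := near_forall hx
    (fun k W _ => ∀ hxW : x ∈ W, ∃ a : Ring O W, gr hxW a = r k)
    (fun k W W' _ h hP hxW' => by
      obtain ⟨s, hs⟩ := hP (h hxW')
      exact ⟨rres O h s, (gr_rres h hxW' s).trans hs⟩)
    (fun k => by
      obtain ⟨V, hxV, s, hs⟩ := exists_gr_eq (r k)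
      exact ⟨U ⊓ V, inf_le_left, ⟨hx, hxV⟩, fun hW => ⟨rres O inf_le_right s, (gr_rres _ hW s).trans hs⟩⟩)
  choose s hs using fun k => h k hxW
  exact ⟨W, hW, hxW, s, hs⟩

/-- Finitely many pairs of sections with the same germs agree near the point. -/
theorem exists_res_eq_forall {κ : Type*} [Finite κ] (hx : x ∈ U) {s t : κ → Sec M U}
    (h : ∀ k, gm M hx (s k) = gm M hx (t k)) :
    ∃ (W : Opens X) (hW : W ≤ U), x ∈ W ∧ ∀ k, res M hW (s k) = res M hW (t k) :=
  near_forall hx (fun k W hW => res M hW (s k) = res M hW (t k))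
    (fun k W W' hW h e => by rw [← res_res hW h, e, res_res]) fun k => exists_res_eq hx (h k)

/-- Generators generate the stalks. -/
theorem span_gm_of_isGen {s : Fin n → Sec M U} (hs : IsGen M s) (hx : x ∈ U) :
    Submodule.span (ModSite.stalkRing (pt x) O) (Set.range fun i => gm M hx (s i)) = ⊤ := by
  refine eq_top_iff.2 fun y _ => ?_
  obtain ⟨V, hxV, t, rfl⟩ := exists_gm_eq y
  obtain ⟨W, hW, a, hxW, ha⟩ := hs (V ⊓ U) inf_le_right (res M inf_le_left t) x ⟨hxV, hx⟩
  rw [res_res] at ha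
  rw [← gm_res (hW.trans inf_le_left) hxW, ← ha, gm_comb]
  exact sum_mem fun i _ => Submodule.smul_mem _ _ (Submodule.subset_span ⟨i, rfl⟩)

/-- Sections generating a module, with a lift along a morphism, show that it is an epimorphism near them. -/
theorem epi_restr_of_lift (φ : M ⟶ N) {s : Fin n → Sec N U} (hs : IsGen N s) (t : Fin n → Sec M U)
    (ht : ∀ i, appL φ U (t i) = s i) : Epi ((ModSite.restr O U).map φ) := by
  refine Site.epi_of_liftSieve _ fun Y y => cover_of_forall_mem fun x hx => ?_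
  obtain ⟨W, hW, a, hxW, ha⟩ := hs Y.left (leOfHom Y.hom) y x hx
  refine ⟨W, hW, hxW, comb t (hW.trans (leOfHom Y.hom)) a, ?_⟩
  refine Eq.trans ?_ ha
  refine (appL_comb φ t (hW.trans (leOfHom Y.hom)) a).trans ?_
  exact congrArg (fun q => comb q (hW.trans (leOfHom Y.hom)) a) (funext ht)

/-- Sections which generate and are independent. -/
structure IsBasis (M : ModSite.Mod O) (s : Fin n → Sec M U) : Prop where
  gen : IsGen M s
  indep : ∀ (V : Opens X) (h : V ≤ U) (a : Fin n → Ring O V), comb s h a = 0 → a = 0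

theorem IsBasis.restrict {s : Fin n → Sec M U} (hs : IsBasis M s) (h : V ≤ U) :
    IsBasis M fun i => res M h (s i) :=
  ⟨hs.gen.restrict h, fun W hW a ha => hs.indep W (hW.trans h) a (by
    refine Eq.trans ?_ ha
    simp only [comb, res_res])⟩

/-- A basis gives a trivialisation. -/
theorem IsBasis.nonempty_iso {s : Fin n → Sec M U} (hs : IsBasis M s) :
    Nonempty ((ModSite.restr O U).obj M ≅ SheafOfModules.free (ULift.{u} (Fin n))) := by
  have := hs.gen.epi_freeToOver
  have : Mono (freeToOver M s) := by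
    refine ModPull.mono_of_app_eq_zero _ fun Y z hz => ?_
    refine Site.ext_proj fun i => ?_
    have h := app_freeToOver s Y fun j => Site.app (Site.proj (O := O.over U) ⟨j⟩) Y z
    have h0 := hs.indep Y.left (leOfHom Y.hom) _ (h.symm.trans ((congrArg (fun t => Site.app (freeToOver M s) Y t)
      (Site.eq_sum Y z).symm).trans hz))
    exact (congrFun h0 i.down).trans (map_zero _).symm
  have : IsIso (freeToOver M s) := isIso_of_mono_of_epi _
  exact ⟨(asIso (freeToOver M s)).symm⟩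

/-- A trivialisation gives a basis. -/
theorem exists_isBasis (e : (ModSite.restr O U).obj M ≅ SheafOfModules.free (ULift.{u} (Fin n))) :
    ∃ s : Fin n → Sec M U, IsBasis M s := by
  let Y₀ : Over U := Over.mk (𝟙 U)
  let g : (SheafOfModules.free (ULift.{u} (Fin n)) : ModSite.Mod (O.over U)) ⟶ M.over U := e.inv
  let s : Fin n → Sec M U := fun i => ((M.over U).freeHomEquiv g ⟨i⟩).val (op Y₀)
  have key : ∀ (Y : Over U) (a : Fin n → Ring O Y.left),
      (Site.app g Y (∑ i : ULift.{u} (Fin n), ((show Site.Scal (O.over U) Y from a i.down)) •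
        Site.basisSec (O := O.over U) i Y) : Sec M Y.left) = comb s (leOfHom Y.hom) a := fun Y a =>
    (app_free_sum g Y fun i => a i.down).trans
      (Equiv.ulift.sum_comp fun i => a i • res M (leOfHom Y.hom) (s i))
  have inj : ∀ Y, Function.Injective (Site.app g Y) := fun Y => Site.app_injective_of_mono e.inv Y
  refine ⟨s, ⟨fun V h y x hx => ?_, fun V h a ha => ?_⟩⟩
  · let Y : Over U := Over.mk (homOfLE h)
    let z := Site.app (O := O.over U) e.hom Y y
    refine ⟨V, le_rfl, fun i => Site.app (Site.proj (O := O.over U) ⟨i⟩) Y z, hx, ?_⟩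
    refine ((key Y _).symm.trans ?_).trans (res_refl _ _).symm
    refine (congrArg (fun t => Site.app g Y t) (Site.eq_sum Y z).symm).trans ?_
    exact (Site.app_comp e.hom e.inv Y y).symm.trans (congrArg (fun k => Site.app k Y y) e.hom_inv_id)
  · let Y : Over U := Over.mk (homOfLE h)
    have h0 := inj Y (((key Y a).trans ha).trans (map_zero (Site.app g Y)).symm)
    funext i
    have := congrArg (Site.app (Site.proj (O := O.over U) ⟨i⟩) Y) h0
    rw [Site.app_proj_sum, map_zero] at this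
    exact this

/-- Germs of a basis form a basis of the stalk. -/
theorem IsBasis.linearIndependent_gm {s : Fin n → Sec M U} (hs : IsBasis M s) (hx : x ∈ U) :
    LinearIndependent (ModSite.stalkRing (pt x) O) fun i => gm M hx (s i) := by
  rw [Fintype.linearIndependent_iff]
  intro c hc i
  obtain ⟨W, hW, hxW, a, ha⟩ := exists_rep_ring hx c
  have h0 : gm M hxW (comb s hW a) = gm M hxW 0 := by
    rw [gm_comb, gm_zero, ← hc]
    exact Finset.sum_congr rfl fun j _ => by rw [ha]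
  obtain ⟨W', hW', hxW', e⟩ := exists_res_eq hxW h0
  rw [res_comb, map_zero] at e
  rw [← ha, ← gr_rres hW' hxW', congrFun (hs.indep W' _ _ e) i]
  exact gr_zero hxW'

end Groth.Agent.DSites.ModLoc.Top
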