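import Groth.Agent.DSites.ModLoc.Top
import Mathlib.LinearAlgebra.Matrix.NonsingularInverse

/-!
# Local properties of sheaves of modules on a ringed space
-/

set_option autoImplicit false

universe u

open CategoryTheory CategoryTheory.Limits Opposite TopologicalSpace

namespace Groth.Agent.DSites.ModLoc.Top

open FMod90

variable {X : TopCat.{u}} {O : Sheaf (Opens.grothendieckTopology X) CommRingCat.{u}}
  {F G : ModSite.Mod O} {U V W : Opens X} {x : X} {n m : ℕ}

theorem isFiniteType_of_forall (h : ∀ x : X, ∃ (U : Opens X) (_ : x ∈ U) (n : ℕ) (s : Fin n → Sec F U), IsGen F s) :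
    SheafOfModules.IsFiniteType (R := ModSite.ringSh O) F := by
  choose U hU n s hs using h
  exact isFiniteType_of_isGen (fun x : X => U x) (fun x => ⟨x, hU x⟩) fun x => ⟨n x, s x, hs x⟩

theorem isFinitePresentation_of_forall (h : ∀ x : X, ∃ (U : Opens X) (_ : x ∈ U) (n m : ℕ)
      (s : Fin n → Sec F U) (r : Fin m → Fin n → Ring O U), IsPres F s r) :
    SheafOfModules.IsFinitePresentation (R := ModSite.ringSh O) F := by
  choose U hU n m s r hs using h
  exact isFinitePresentation_of_isPres (fun x : X => U x) (fun x => ⟨x, hU x⟩) fun x => ⟨n x, m x, s x, r x, hs x⟩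

/-- Sections whose combinations include generators generate. -/
theorem isGen_of_comb {s : Fin n → Sec F U} (hs : IsGen F s) {t : Fin m → Sec F U}
    (b : Fin n → Fin m → Ring O U) (hb : ∀ i, comb t le_rfl (b i) = s i) : IsGen F t := by
  intro V h y x hx
  obtain ⟨W, hW, a, hxW, ha⟩ := hs V h y x hx
  refine ⟨W, hW, fun j => ∑ l, a l * rres O (hW.trans h) (b l j), hxW, ?_⟩
  rw [comb_relation, ← ha]
  exact Finset.sum_congr rfl fun i _ => by rw [hb]

/-- Finitely many sections are near a point combinations of generators. -/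
theorem exists_comb {s : Fin n → Sec F U} (hs : IsGen F s) (h : V ≤ U) (hx : x ∈ V) (t : Fin m → Sec F V) :
    ∃ (W : Opens X) (hW : W ≤ V), x ∈ W ∧ ∀ j, ∃ a, comb s (hW.trans h) a = res F hW (t j) := by
  refine near_forall hx (fun j W hW => ∃ a, comb s (hW.trans h) a = res F hW (t j))
    (fun j W W' hW h' ⟨a, ha⟩ => ⟨fun i => rres O h' (a i), ?_⟩) fun j => ?_
  · rw [← res_res hW h', ← ha, res_comb]
  · obtain ⟨W, hW, a, hxW, ha⟩ := hs V h (t j) x hx
    exact ⟨W, hW, hxW, a, ha⟩

/-- Finitely many sections near a point lift along an epimorphism. -/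
theorem exists_lift (φ : G ⟶ F) [Epi φ] (hx : x ∈ U) (t : Fin m → Sec F U) :
    ∃ (W : Opens X) (hW : W ≤ U), x ∈ W ∧ ∀ j, ∃ u : Sec G W, appL φ W u = res F hW (t j) := by
  refine near_forall hx (fun j W hW => ∃ u : Sec G W, appL φ W u = res F hW (t j))
    (fun j W W' hW h' ⟨u, hu⟩ => ⟨res G h' u, ?_⟩) fun j => ?_
  · rw [← res_appL, hu, res_res]
  · obtain ⟨W, hW, u, hxW, hu⟩ := locLift_of_epi φ (t j) x hx
    exact ⟨W, hW, hxW, u, hu⟩

theorem exists_epi_restr_of_surjective (φ : G ⟶ F) [SheafOfModules.IsFiniteType (R := ModSite.ringSh O) F]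
    (hx : Function.Surjective (ModSite.stalkMap (pt x) φ).hom) :
    ∃ U : Opens X, x ∈ U ∧ Epi ((ModSite.restr O U).map φ) := by
  obtain ⟨U, hxU, n, s, hs⟩ := exists_isGen F x
  choose m hm using fun i => hx (gm F hxU (s i))
  obtain ⟨V, hV, hxV, t, ht⟩ := exists_rep (M := G) hxU m
  have h : ∀ i, gm F hxV (appL φ V (t i)) = gm F hxV (res F hV (s i)) := fun i => by
    rw [← stalkMap_gm, ht, hm, gm_res]
  obtain ⟨W, hW, hxW, he⟩ := exists_res_eq_forall hxV h
  refine ⟨W, hxW, epi_restr_of_lift φ (hs.restrict (hW.trans hV)) (fun i => res G hW (t i)) fun i => ?_⟩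
  rw [← res_appL, he, res_res]

theorem exists_isGen_kernel (θ : G ⟶ F) [Epi θ] [SheafOfModules.IsFiniteType (R := ModSite.ringSh O) G]
    [SheafOfModules.IsFinitePresentation (R := ModSite.ringSh O) F] (x : X) :
    ∃ (U : Opens X) (_ : x ∈ U) (n : ℕ) (s : Fin n → Sec (kernel θ) U), IsGen (kernel θ) s := by
  obtain ⟨U₁, hx₁, p, t, ht⟩ := exists_isGen G x
  obtain ⟨U₂, hx₂, n, m, s, r, hp⟩ := exists_isPres F x
  obtain ⟨V, hV, hxV, hu⟩ := exists_lift θ (show x ∈ U₁ ⊓ U₂ from ⟨hx₁, hx₂⟩) fun i => res F inf_le_right (s i)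
  choose u hu using hu
  obtain ⟨W, hW, hxW, ha⟩ := exists_comb hp.gen (hV.trans inf_le_right) hxV
    fun j => appL θ V (res G (hV.trans inf_le_left) (t j))
  choose a ha using ha
  let h₂ : W ≤ U₂ := (hW.trans hV).trans inf_le_right
  let h₁ : W ≤ U₁ := (hW.trans hV).trans inf_le_left
  let u' : Fin n → Sec G W := fun i => res G hW (u i)
  have hu' : ∀ i, appL θ W (u' i) = res F h₂ (s i) := fun i => by
    rw [← res_appL, hu, res_res, res_res]
  let k : Fin (p + m) → Sec G W := Fin.append
    (fun j => res G h₁ (t j) - comb u' le_rfl (a j)) (fun l => comb u' le_rfl fun i => rres O h₂ (r l i))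
  have hθu : ∀ c : Fin n → Ring O W, appL θ W (comb u' le_rfl c) = comb s h₂ c := fun c => by
    rw [appL_comb, funext hu']
    simp only [comb, res_res]
  have hk : ∀ j, appL θ W (k j) = 0 := by
    refine Fin.addCases (fun j => ?_) fun l => ?_
    · simp only [k, Fin.append_left, map_sub, hθu]
      rw [sub_eq_zero, ← res_appL, ha, res_appL, res_appL, res_res]
    · simp only [k, Fin.append_right, hθu]
      rw [← res_comb s le_rfl, hp.rel, map_zero]
  choose k' hk' using fun j => exists_kernel_lift θ (k j) (hk j)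
  refine ⟨W, hxW, p + m, k', fun V' h' y z hz => ?_⟩
  obtain ⟨W₁, hW₁, c, hz₁, hc⟩ := ht V' (h'.trans h₁) (appL (kernel.ι θ) V' y) z hz
  let e : Fin n → Ring O W₁ := fun i => ∑ j, c j * rres O (hW₁.trans h') (a j i)
  have h0 : comb s ((hW₁.trans h').trans h₂) e = 0 := by
    have h4 := congrArg (res F hW₁) (appL_kernel_condition θ y)
    rw [res_appL, ← hc, appL_comb, map_zero] at h4
    rw [← h4]
    simp only [comb, e, Finset.sum_smul, mul_smul]
    rw [Finset.sum_comm]
    refine Finset.sum_congr rfl fun j _ => ?_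
    rw [← Finset.smul_sum]
    refine congrArg (fun t => c j • t) ?_
    have h3 := congrArg (res F (hW₁.trans h')) (ha j)
    rw [res_comb, res_res, res_appL, res_res] at h3
    refine Eq.trans h3 ?_
    exact (res_appL θ _ (t j)).symm
  obtain ⟨W₂, hW₂, d, hz₂, hd⟩ := hp.exact W₁ ((hW₁.trans h').trans h₂) e h0 z hz₁
  let g : W₂ ≤ W := (hW₂.trans hW₁).trans h'
  refine ⟨W₂, hW₂.trans hW₁, Fin.append (fun j => rres O hW₂ (c j)) d, hz₂, injective_of_mono (kernel.ι θ) W₂ ?_⟩
  rw [appL_comb, funext hk', ← res_appL, ← res_res hW₁ hW₂, ← hc, res_comb]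
  have e2 : comb u' g (fun i => ∑ l, d l * rres O g (rres O h₂ (r l i))) =
      comb u' g (fun i => ∑ j, rres O hW₂ (c j) * rres O g (a j i)) := by
    refine congrArg (comb u' g) (funext fun i => ?_)
    have := hd i
    simp only [e, map_sum, map_mul, rres_rres] at this
    rw [this]
    simp only [rres_rres]
  rw [comb_relation, comb_relation] at e2
  simp only [comb, k, Fin.sum_univ_add, Fin.append_left, Fin.append_right, map_sub, smul_sub,
    Finset.sum_sub_distrib, res_res]
  simp only [comb, res_res] at e2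
  rw [e2]
  abel

set_option maxHeartbeats 800000 in
theorem exists_isPres_cokernel (φ : G ⟶ F) [SheafOfModules.IsFiniteType (R := ModSite.ringSh O) G]
    [SheafOfModules.IsFinitePresentation (R := ModSite.ringSh O) F] (x : X) :
    ∃ (U : Opens X) (_ : x ∈ U) (n m : ℕ) (s : Fin n → Sec (cokernel φ) U) (r : Fin m → Fin n → Ring O U),
      IsPres (cokernel φ) s r := by
  obtain ⟨U₁, hx₁, p, t, ht⟩ := exists_isGen G x
  obtain ⟨U₂, hx₂, n, m, s, r, hp⟩ := exists_isPres F x
  obtain ⟨W, hW, hxW, ha⟩ := exists_comb hp.gen (inf_le_right : U₁ ⊓ U₂ ≤ U₂) ⟨hx₁, hx₂⟩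
    fun j => appL φ _ (res G (inf_le_left : U₁ ⊓ U₂ ≤ U₁) (t j))
  choose a ha using ha
  let h₂ : W ≤ U₂ := hW.trans inf_le_right
  let h₁ : W ≤ U₁ := hW.trans inf_le_left
  let π := cokernel.π φ
  have hπ : ∀ (V : Opens X) (y : Sec G V), appL π V (appL φ V y) = 0 := fun V y => by
    rw [← appL_comp, cokernel.condition, appL_zero]
  have hcomb : ∀ (V : Opens X) (h : V ≤ W) (c : Fin n → Ring O V),
      comb (fun i => appL π W (res F h₂ (s i))) h c = appL π V (comb s (h.trans h₂) c) := fun V h c => by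
    rw [appL_comb]
    simp only [comb, ← res_appL, res_res]
  have hat : ∀ (V : Opens X) (h : V ≤ W) (j : Fin p), comb s (h.trans h₂) (fun i => rres O h (a j i)) =
      appL φ V (res G (h.trans h₁) (t j)) := fun V h j => by
    rw [← res_comb s (hW.trans inf_le_right) h, ha, res_res, res_appL, res_res]
  refine ⟨W, hxW, n, p + m, fun i => appL π W (res F h₂ (s i)), Fin.append a (fun l i => rres O h₂ (r l i)),
    ⟨fun V h y z hz => ?_, fun l => ?_, fun V h c hc z hz => ?_⟩⟩
  · obtain ⟨W₁, hW₁, y', hz₁, hy'⟩ := locLift_of_epi π y z hz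
    obtain ⟨W₂, hW₂, c, hz₂, hc⟩ := hp.gen W₁ ((hW₁.trans h).trans h₂) y' z hz₁
    refine ⟨W₂, hW₂.trans hW₁, c, hz₂, ?_⟩
    rw [hcomb, hc, ← res_appL, hy', res_res]
  · refine Fin.addCases (fun j => ?_) (fun j => ?_) l
    · simp only [Fin.append_left]
      refine (hcomb W le_rfl _).trans ?_
      have e := hat W le_rfl j
      simp only [rres_refl] at e
      rw [e, hπ]
    · simp only [Fin.append_right]
      refine (hcomb W le_rfl _).trans ?_
      rw [← res_comb s le_rfl h₂, hp.rel, map_zero, map_zero]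
  · rw [hcomb] at hc
    have hS : (ShortComplex.mk φ π (cokernel.condition φ)).Exact :=
      ShortComplex.exact_of_g_is_cokernel _ (cokernelIsCokernel φ)
    obtain ⟨w, hw⟩ := exists_kernel_lift π _ hc
    have := hS.epi_kernelLift
    obtain ⟨W₁, hW₁, v, hz₁, hv⟩ := locLift_of_epi (kernel.lift π φ (cokernel.condition φ)) w z hz
    obtain ⟨W₂, hW₂, b, hz₂, hb⟩ := ht W₁ ((hW₁.trans h).trans h₁) v z hz₁
    let g : W₂ ≤ W := (hW₂.trans hW₁).trans h
    have hv' : appL φ W₁ v = comb s ((hW₁.trans h).trans h₂) (fun i => rres O hW₁ (c i)) := by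
      have := congrArg (appL (kernel.ι π) W₁) hv
      rw [← appL_comp, kernel.lift_ι, ← res_appL, hw, res_comb] at this
      exact this
    have h0 : comb s (g.trans h₂) (fun i => rres O (hW₂.trans hW₁) (c i) - ∑ j, b j * rres O g (a j i)) = 0 := by
      rw [comb_sub, sub_eq_zero]
      have e1 := congrArg (res F hW₂) hv'
      rw [res_comb, res_appL, ← hb, appL_comb] at e1
      simp only [rres_rres] at e1
      refine e1.symm.trans ?_
      simp only [comb, Finset.sum_smul, mul_smul]
      rw [Finset.sum_comm]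
      refine Finset.sum_congr rfl fun j _ => ?_
      rw [← Finset.smul_sum]
      refine congrArg (fun t => b j • t) ?_
      refine (res_appL φ _ (t j)).trans ?_
      exact (hat W₂ g j).symm
    obtain ⟨W₃, hW₃, d, hz₃, hd⟩ := hp.exact W₂ (g.trans h₂) _ h0 z hz₂
    refine ⟨W₃, (hW₃.trans hW₂).trans hW₁, Fin.append (fun j => rres O hW₃ (b j)) d, hz₃, fun i => ?_⟩
    have := hd i
    simp only [map_sub, map_sum, map_mul, rres_rres] at this
    rw [sub_eq_iff_eq_add] at this
    simp only [Fin.sum_univ_add, Fin.append_left, Fin.append_right, rres_rres]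
    rw [this, add_comm]

set_option maxHeartbeats 800000 in
theorem exists_isGen_of_shortExact (S : ShortComplex (ModSite.Mod O)) (hS : S.ShortExact)
    [SheafOfModules.IsFiniteType (R := ModSite.ringSh O) S.X₁]
    [SheafOfModules.IsFiniteType (R := ModSite.ringSh O) S.X₃] (x : X) :
    ∃ (U : Opens X) (_ : x ∈ U) (n : ℕ) (s : Fin n → Sec S.X₂ U), IsGen S.X₂ s := by
  obtain ⟨U₁, hx₁, p, t, ht⟩ := exists_isGen S.X₁ x
  obtain ⟨U₃, hx₃, n, s, hs⟩ := exists_isGen S.X₃ x
  have := hS.epi_g
  have := hS.mono_f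
  obtain ⟨W, hW, hxW, hu⟩ := exists_lift S.g (show x ∈ U₁ ⊓ U₃ from ⟨hx₁, hx₃⟩) fun i => res S.X₃ inf_le_right (s i)
  choose u hu using hu
  let h₁ : W ≤ U₁ := hW.trans inf_le_left
  refine ⟨W, hxW, p + n, Fin.append (fun j => appL S.f W (res S.X₁ h₁ (t j))) u, fun V h y z hz => ?_⟩
  obtain ⟨W₁, hW₁, c, hz₁, hc⟩ := hs V (h.trans (hW.trans inf_le_right)) (appL S.g V y) z hz
  have h0 : appL S.g W₁ (res S.X₂ hW₁ y - comb u (hW₁.trans h) c) = 0 := by
    rw [map_sub, sub_eq_zero, ← res_appL, ← hc, appL_comb, funext hu]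
    simp only [comb, res_res]
  obtain ⟨w, hw⟩ := exists_kernel_lift S.g _ h0
  have := hS.exact.epi_kernelLift
  obtain ⟨W₂, hW₂, v, hz₂, hv⟩ := locLift_of_epi (kernel.lift S.g S.f S.zero) w z hz₁
  obtain ⟨W₃, hW₃, b, hz₃, hb⟩ := ht W₂ (((hW₂.trans hW₁).trans h).trans h₁) v z hz₂
  have hv' := congrArg (appL (kernel.ι S.g) W₂) hv
  rw [← appL_comp, kernel.lift_ι, ← res_appL, hw] at hv'
  have e := congrArg (res S.X₂ hW₃) hv'
  rw [res_appL, ← hb, appL_comb, map_sub, map_sub, res_res, res_res, eq_sub_iff_add_eq, res_comb, res_comb] at e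
  refine ⟨W₃, (hW₃.trans hW₂).trans hW₁, Fin.append b fun i => rres O (hW₃.trans hW₂) (c i), hz₃, ?_⟩
  refine Eq.trans ?_ e
  simp only [comb, Fin.sum_univ_add, Fin.append_left, Fin.append_right, rres_rres, res_res, res_appL]

theorem isIso_of_epi_of_rank (r : ℕ)
    (hF : ∀ x : X, ∃ U : Opens X, x ∈ U ∧
      Nonempty ((ModSite.restr O U).obj F ≅ SheafOfModules.free (ULift.{u} (Fin r))))
    (hG : ∀ x : X, ∃ U : Opens X, x ∈ U ∧
      Nonempty ((ModSite.restr O U).obj G ≅ SheafOfModules.free (ULift.{u} (Fin r))))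
    (φ : F ⟶ G) [Epi φ] : IsIso φ := by
  have : Mono φ := by
    refine mono_of_injective φ fun U => ?_
    rw [← LinearMap.ker_eq_bot, LinearMap.ker_eq_bot']
    intro y hy
    refine eq_zero_of_locally fun x hx => ?_
    obtain ⟨U₁, hx₁, ⟨e₁⟩⟩ := hF x
    obtain ⟨U₂, hx₂, ⟨e₂⟩⟩ := hG x
    obtain ⟨f, hf⟩ := exists_isBasis e₁
    obtain ⟨g, hg⟩ := exists_isBasis e₂
    obtain ⟨V, hV, hxV, hu⟩ := exists_lift φ (show x ∈ (U ⊓ U₁) ⊓ U₂ from ⟨⟨hx, hx₁⟩, hx₂⟩)
      fun i => res G inf_le_right (g i)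
    choose v hv using hu
    have hVU₁ : V ≤ U₁ := hV.trans (inf_le_left.trans inf_le_right)
    obtain ⟨V', hV', hxV', hA⟩ := exists_comb hf.gen hVU₁ hxV v
    choose A hA using hA
    obtain ⟨W, hW, hxW, hB⟩ := exists_comb hg.gen ((hV'.trans hV).trans inf_le_right) hxV'
      fun i => appL φ V' (res F (hV'.trans hVU₁) (f i))
    choose B hB using hB
    let k₁ : W ≤ U₁ := (hW.trans hV').trans hVU₁
    let k₂ : W ≤ U₂ := hW.trans ((hV'.trans hV).trans inf_le_right)
    let k : W ≤ U := (hW.trans hV').trans (hV.trans (inf_le_left.trans inf_le_left))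
    let g' := fun i => res G k₂ (g i)
    let A' : Matrix (Fin r) (Fin r) (Ring O W) := fun i j => rres O hW (A i j)
    let B' : Matrix (Fin r) (Fin r) (Ring O W) := B
    have hφ : ∀ c : Fin r → Ring O W,
        appL φ W (comb f k₁ c) = comb g k₂ (fun j => ∑ i, c i * B i j) := fun c => by
      simp only [comb, map_sum, map_smul, Finset.sum_smul, mul_smul]
      rw [Finset.sum_comm]
      refine Finset.sum_congr rfl fun i _ => ?_
      rw [← Finset.smul_sum]
      refine congrArg (fun t => c i • t) ?_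
      refine Eq.trans ?_ (hB i).symm
      rw [res_appL, res_res]
    have hAB : A' * B' = 1 := by
      refine Matrix.ext fun i l => ?_
      have e := congrArg (res F hW) (hA i)
      rw [res_comb, res_res] at e
      have e' := congrArg (appL φ W) e
      rw [hφ, ← res_appL, hv, res_res, res_res] at e'
      have h0 : comb g k₂ (fun j => ∑ q, rres O hW (A i q) * B q j - delta i j) = 0 := by
        rw [comb_sub, comb_delta, e', sub_self]
      have := congrFun (hg.indep W k₂ _ h0) l
      rw [Pi.zero_apply, sub_eq_zero] at this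
      rw [Matrix.mul_apply]
      refine this.trans ?_
      simp [delta, Matrix.one_apply, eq_comm]
    have hBA : B' * A' = 1 := mul_eq_one_comm.1 hAB
    obtain ⟨W', hW', c, hxW', hc⟩ := hf.gen W k₁ (res F k y) x hxW
    refine ⟨W', hW'.trans k, hxW', ?_⟩
    rw [← res_res k hW', ← hc]
    have e0 : comb g (hW'.trans k₂) (fun j => ∑ i, c i * rres O hW' (B i j)) = 0 := by
      have : appL φ W' (comb f (hW'.trans k₁) c) = 0 := by rw [hc, ← res_appL, ← res_appL, hy, map_zero, map_zero]
      refine Eq.trans ?_ this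
      simp only [comb, map_sum, map_smul, Finset.sum_smul, mul_smul]
      rw [Finset.sum_comm]
      refine Finset.sum_congr rfl fun i _ => ?_
      rw [← Finset.smul_sum]
      refine congrArg (fun t => c i • t) ?_
      have h5 := congrArg (res G hW') (hB i)
      rw [res_comb, res_res, res_appL, res_res] at h5
      exact h5
    have hz := hg.indep W' _ _ e0
    suffices c = 0 by simp [this, comb]
    funext l
    have : ∑ j, (∑ i, c i * rres O hW' (B i j)) * rres O hW' (A' j l) = 0 :=
      Finset.sum_eq_zero fun j _ => by rw [congrFun hz j, Pi.zero_apply, zero_mul]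
    simp only [Finset.sum_mul, mul_assoc] at this
    rw [Finset.sum_comm] at this
    have e : ∀ i, ∑ j, c i * (rres O hW' (B i j) * rres O hW' (A' j l)) = c i * rres O hW' ((B' * A') i l) :=
      fun i => by rw [Matrix.mul_apply, map_sum, Finset.mul_sum]; simp only [map_mul]; rfl
    simp only [e, hBA, Matrix.one_apply, apply_ite (rres O hW'), map_one, map_zero, mul_ite, mul_one, mul_zero,
      Finset.sum_ite_eq', Finset.mem_univ, if_true] at this
    exact this
  exact isIso_of_mono_of_epi φ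

/-- Near a point where the stalk is free, a finitely presented module is free. -/
theorem exists_isBasis_of_stalk_basis [SheafOfModules.IsFinitePresentation (R := ModSite.ringSh O) F]
    (b : Module.Basis (Fin n) (ModSite.stalkRing (pt x) O) (ModSite.stalkAb (pt x) F)) :
    ∃ (U : Opens X) (_ : x ∈ U) (s : Fin n → Sec F U), IsBasis F s := by
  obtain ⟨U, hxU, p, m, s, r, hp⟩ := exists_isPres F x
  obtain ⟨V₁, hV₁, hxV₁, u, hu⟩ := exists_rep (M := F) hxU fun k => b k
  obtain ⟨V₂, hV₂, hxV₂, bb, hbb⟩ := exists_rep_ring (O := O) hxV₁ fun q : Fin p × Fin n => b.repr (gm F hxU (s q.1)) q.2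
  have hs' : ∀ i, gm F hxV₂ (comb u hV₂ fun j => bb (i, j)) = gm F hxV₂ (res F (hV₂.trans hV₁) (s i)) := fun i => by
    rw [gm_comb, gm_res]
    simp only [hbb, hu]
    exact b.sum_repr _
  obtain ⟨V₃, hV₃, hxV₃, he⟩ := exists_res_eq_forall hxV₂ hs'
  let w : V₃ ≤ U := (hV₃.trans hV₂).trans hV₁
  let u' := fun k => res F (hV₃.trans hV₂) (u k)
  let B : Fin p → Fin n → Ring O V₃ := fun i j => rres O hV₃ (bb (i, j))
  have hB : ∀ i, comb u' le_rfl (B i) = res F w (s i) := fun i => by
    have := he i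
    rw [res_comb, res_res] at this
    refine Eq.trans ?_ this
    simp only [comb, u', B, res_res]
  have hugen : IsGen F u' := isGen_of_comb (hp.gen.restrict w) B hB
  obtain ⟨V₄, hV₄, hxV₄, hee⟩ := exists_comb hp.gen w hxV₃ u'
  choose ee hee using hee
  let B4 : Fin p → Fin n → Ring O V₄ := fun i j => rres O hV₄ (B i j)
  let ρ : Fin m → Fin n → Ring O V₄ := fun l j => ∑ i, rres O (hV₄.trans w) (r l i) * B4 i j
  let κ : Fin n → Fin n → Ring O V₄ := fun k j => (∑ i, ee k i * B4 i j) - delta k j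
  have hB4 : ∀ i, comb u' hV₄ (B4 i) = res F (hV₄.trans w) (s i) := fun i => by
    rw [← res_comb u' le_rfl hV₄, hB, res_res]
  have hρ : ∀ l, comb u' hV₄ (ρ l) = 0 := fun l => by
    have : comb u' hV₄ (ρ l) = ∑ i, rres O (hV₄.trans w) (r l i) • comb u' hV₄ (B4 i) := by
      simp only [comb, ρ, Finset.sum_smul, Finset.smul_sum, mul_smul]
      exact Finset.sum_comm
    rw [this]
    simp only [hB4]
    refine Eq.trans ?_ ((congrArg (res F (hV₄.trans w)) (hp.rel l)).trans (map_zero _))
    rw [res_comb]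
    rfl
  have hκ : ∀ k, comb u' hV₄ (κ k) = 0 := fun k => by
    rw [comb_sub, comb_delta, sub_eq_zero, ← hee]
    have : comb u' hV₄ (fun j => ∑ i, ee k i * B4 i j) = ∑ i, ee k i • comb u' hV₄ (B4 i) := by
      simp only [comb, Finset.sum_smul, Finset.smul_sum, mul_smul]
      exact Finset.sum_comm
    rw [this]
    simp only [hB4]
    rfl
  have hgm : ∀ k, gm F (hV₄ hxV₄) (u' k) = b k := fun k => by rw [gm_res, hu]
  have hzero : ∀ c : Fin n → Ring O V₄, comb u' hV₄ c = 0 → ∀ j, gr hxV₄ (c j) = 0 := fun c hc => by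
    have h := congrArg (gm F hxV₄) hc
    rw [gm_comb, gm_zero] at h
    simp only [hgm] at h
    exact Fintype.linearIndependent_iff.1 b.linearIndependent _ h
  obtain ⟨W, hW, hxW, hvan⟩ := near_forall (U := V₄) (x := x) hxV₄
    (fun q : (Fin m ⊕ Fin n) × Fin n => fun W hW => rres O hW (Sum.elim ρ κ q.1 q.2) = 0)
    (fun q W W' hW h e => by rw [← rres_rres hW h, e, map_zero]) (fun q => by
      obtain ⟨W, hW, hxW, e⟩ := exists_rres_eq hxV₄ (b := 0) (a := Sum.elim ρ κ q.1 q.2) (by
        rw [gr_zero]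
        rcases q with ⟨l | k, j⟩
        exacts [hzero _ (hρ l) j, hzero _ (hκ k) j])
      exact ⟨W, hW, hxW, e.trans (map_zero _)⟩)
  let z : W ≤ U := (hW.trans hV₄).trans w
  refine ⟨W, hxW, fun k => res F (hW.trans hV₄) (u' k), ⟨hugen.restrict _, fun V h c hc => ?_⟩⟩
  have h' : V ≤ V₄ := h.trans hW
  have hc' : comb u' (h'.trans hV₄) c = 0 := by
    refine Eq.trans ?_ hc
    simp only [comb, res_res]
  let cs : Fin p → Ring O V := fun i => ∑ k, c k * rres O h' (ee k i)
  have hcs : comb s (h.trans z) cs = 0 := by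
    refine Eq.trans ?_ hc'
    simp only [cs]
    rw [show comb s (h.trans z) (fun i => ∑ k, c k * rres O h' (ee k i)) =
      ∑ k, c k • comb s (h.trans z) (fun i => rres O h' (ee k i)) by
      simp only [comb, Finset.sum_smul, Finset.smul_sum, mul_smul]; exact Finset.sum_comm]
    refine Finset.sum_congr rfl fun k _ => congrArg (fun t => c k • t) ?_
    rw [← res_comb s (hV₄.trans w) h', hee, res_res]
  funext j
  refine eq_of_locally (M := ModSite.unit O) (fun y hy => ?_)
  obtain ⟨V', hV', d, hyV', hd⟩ := hp.exact V (h.trans z) cs hcs y hy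
  refine ⟨V', hV', hyV', (?_ : rres O hV' (c j) = rres O hV' ((0 : Fin n → Ring O V) j))⟩
  let g : V' ≤ V₄ := hV'.trans h'
  have e1 : ∑ i, rres O hV' (cs i) * rres O g (B4 i j) = ∑ l, d l * rres O g (ρ l j) := by
    simp only [hd, ρ, map_sum, map_mul, rres_rres, Finset.sum_mul, Finset.mul_sum, mul_assoc]
    exact Finset.sum_comm
  have e2 : ∑ l, d l * rres O g (ρ l j) = 0 := Finset.sum_eq_zero fun l _ => by
    have := congrArg (rres O (hV'.trans h)) (hvan (Sum.inl l, j))
    rw [rres_rres, map_zero] at this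
    exact (congrArg (fun t => d l * t) this).trans (mul_zero _)
  have e3 : ∀ k, rres O g (κ k j) = 0 := fun k => by
    have := congrArg (rres O (hV'.trans h)) (hvan (Sum.inr k, j))
    rw [rres_rres, map_zero] at this
    exact this
  have e4 : ∑ i, rres O hV' (cs i) * rres O g (B4 i j) = ∑ k, rres O hV' (c k) * rres O g (delta k j) := by
    have : ∀ k, rres O g (∑ i, ee k i * B4 i j) = rres O g (delta k j) := fun k => by
      rw [← sub_eq_zero, ← map_sub]; exact e3 k
    simp only [cs, map_sum, map_mul, rres_rres, Finset.sum_mul, mul_assoc]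
    rw [Finset.sum_comm]
    refine Finset.sum_congr rfl fun k _ => ?_
    rw [← Finset.mul_sum, ← this k]
    simp only [map_sum, map_mul]
  rw [Pi.zero_apply, map_zero, ← e2, ← e1, e4, Finset.sum_eq_single j]
  · simp [delta]
  · intro k _ hk
    simp [delta, Ne.symm hk]
  · simp

end Groth.Agent.DSites.ModLoc.Top
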