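import Groth.Agent.DSites.ModLoc.TopLoc
import Mathlib.RingTheory.LocalRing.Module
import Mathlib.Topology.Sheaves.Stalks

/-!
# Direct summands of locally free sheaves of modules, ranks
-/

set_option autoImplicit false

universe u

open CategoryTheory CategoryTheory.Limits Opposite TopologicalSpace

namespace Groth.Agent.DSites.ModLoc.Top

open FMod90

variable {X : TopCat.{u}} {O : Sheaf (Opens.grothendieckTopology X) CommRingCat.{u}}
  {F H : ModSite.Mod O} {U V W : Opens X} {x : X} {n m : ℕ}

/-- The comparison of the stalk of a sheaf of rings with the stalk at the point of the site. -/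
noncomputable def toPtStalk (O : TopCat.Sheaf CommRingCat.{u} X) (x : X) :
    O.presheaf.stalk x ⟶ ModSite.stalkRing (pt x) O :=
  colimit.desc ((OpenNhds.inclusion x).op ⋙ O.obj)
    { pt := ModSite.stalkRing (pt x) O
      ι :=
        { app := fun U => (pt x).toPresheafFiber U.unop.1 ⟨⟨U.unop.2⟩⟩ O.obj
          naturality := fun U V g => ((pt x).toPresheafFiber_w _ _ O.obj).trans (Category.comp_id _).symm } }

theorem toPtStalk_germ (O : TopCat.Sheaf CommRingCat.{u} X) (hx : x ∈ U) (a : Ring O U) :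
    (toPtStalk O x).hom (O.presheaf.germ U x hx a) = gr hx a :=
  ConcreteCategory.congr_hom
    (colimit.ι_desc (F := (OpenNhds.inclusion x).op ⋙ O.obj) _ (op ⟨U, hx⟩)) a

/-- The two stalks agree. -/
noncomputable def ptStalkEquiv (O : TopCat.Sheaf CommRingCat.{u} X) (x : X) :
    O.presheaf.stalk x ≃+* ModSite.stalkRing (pt x) O :=
  RingEquiv.ofBijective (toPtStalk O x).hom ⟨fun s t h => by
    obtain ⟨U, hxU, a, rfl⟩ := O.presheaf.exists_germ_eq s
    obtain ⟨V, hxV, b, rfl⟩ := O.presheaf.exists_germ_eq t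
    rw [toPtStalk_germ, toPtStalk_germ] at h
    have h' : gr (show x ∈ U ⊓ V from ⟨hxU, hxV⟩) (rres O inf_le_left a) =
        gr (show x ∈ U ⊓ V from ⟨hxU, hxV⟩) (rres O inf_le_right b) :=
      (gr_rres inf_le_left (show x ∈ U ⊓ V from ⟨hxU, hxV⟩) a).trans
        (h.trans (gr_rres inf_le_right (show x ∈ U ⊓ V from ⟨hxU, hxV⟩) b).symm)
    obtain ⟨W, hW, hxW, e⟩ := exists_rres_eq _ h'
    replace e := (rres_rres (O := O) inf_le_left hW a).symm.trans (e.trans (rres_rres (O := O) inf_le_right hW b))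
    refine O.presheaf.germ_ext W hxW (homOfLE (hW.trans inf_le_left)) (homOfLE (hW.trans inf_le_right)) ?_
    exact e, fun r => by
    obtain ⟨U, hx, a, rfl⟩ := exists_gr_eq r
    exact ⟨O.presheaf.germ U x hx a, toPtStalk_germ O hx a⟩⟩

theorem isFinitePresentation_of_retract
    (hH : ∀ x : X, ∃ (U : Opens X) (n : ℕ), x ∈ U ∧
      Nonempty ((ModSite.restr O U).obj H ≅ SheafOfModules.free (ULift.{u} (Fin n))))
    (i : F ⟶ H) (p : H ⟶ F) (hip : i ≫ p = 𝟙 F) : SheafOfModules.IsFinitePresentation (R := ModSite.ringSh O) F := by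
  refine isFinitePresentation_of_forall fun x => ?_
  obtain ⟨U, n, hxU, ⟨e⟩⟩ := hH x
  obtain ⟨f, hf⟩ := exists_isBasis e
  obtain ⟨W, hW, hxW, ha⟩ := exists_comb hf.gen le_rfl hxU fun j => appL i U (appL p U (f j))
  choose a ha using ha
  have hpi : ∀ (V : Opens X) (y : Sec F V), appL p V (appL i V y) = y := fun V y => by
    rw [← appL_comp, hip, appL_id]
  let s : Fin n → Sec F W := fun j => appL p W (res H hW (f j))
  have hcomb : ∀ (V : Opens X) (h : V ≤ W) (c : Fin n → Ring O V), comb s h c = appL p V (comb f (h.trans hW) c) :=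
    fun V h c => by
      rw [appL_comb]
      simp only [comb, s, ← res_appL, res_res]
  have hA : ∀ (V : Opens X) (h : V ≤ W) (j : Fin n),
      comb f (h.trans hW) (fun l => rres O h (a j l)) = appL i V (appL p V (res H (h.trans hW) (f j))) := fun V h j => by
    have := congrArg (res H h) (ha j)
    rw [res_comb, res_res, res_appL, res_appL] at this
    exact this
  refine ⟨W, hxW, n, n, s, fun j l => delta j l - a j l, ⟨fun V h y z hz => ?_, fun j => ?_, fun V h c hc z hz => ?_⟩⟩
  · obtain ⟨W₁, hW₁, c, hz₁, hc⟩ := hf.gen V (h.trans hW) (appL i V y) z hz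
    refine ⟨W₁, hW₁, c, hz₁, ?_⟩
    rw [hcomb, hc, ← res_appL, hpi]
  · refine (hcomb W le_rfl _).trans ?_
    rw [comb_sub, comb_delta, map_sub]
    have := hA W le_rfl j
    simp only [rres_refl] at this
    rw [this, hpi, sub_self]
  · rw [hcomb] at hc
    have h0 : comb f (h.trans hW) (fun l => ∑ j, c j * rres O h (a j l)) = 0 := by
      refine Eq.trans ?_ ((congrArg (appL i V) hc).trans (map_zero _))
      simp only [comb, map_sum, map_smul, Finset.sum_smul, mul_smul]
      rw [Finset.sum_comm]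
      refine Finset.sum_congr rfl fun j _ => ?_
      rw [← Finset.smul_sum]
      exact congrArg (fun t => c j • t) (hA V h j)
    have hz0 := hf.indep V _ _ h0
    refine ⟨V, le_rfl, c, hz, fun l => ?_⟩
    simp only [rres_refl, map_sub, mul_sub, Finset.sum_sub_distrib]
    rw [show (∑ j, c j * rres O h (a j l)) = 0 from congrFun hz0 l, sub_zero, Finset.sum_eq_single l]
    · simp [delta]
    · intro j _ hj
      simp [delta, Ne.symm hj]
    · simp

theorem exists_isBasis_of_retract (hO : IsLocalRing (ModSite.stalkRing (pt x) O))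
    (hH : ∀ x : X, ∃ (U : Opens X) (n : ℕ), x ∈ U ∧
      Nonempty ((ModSite.restr O U).obj H ≅ SheafOfModules.free (ULift.{u} (Fin n))))
    (i : F ⟶ H) (p : H ⟶ F) (hip : i ≫ p = 𝟙 F) :
    ∃ (U : Opens X) (n : ℕ) (_ : x ∈ U) (s : Fin n → Sec F U), IsBasis F s := by
  have := isFinitePresentation_of_retract hH i p hip
  obtain ⟨U, n, hxU, ⟨e⟩⟩ := hH x
  obtain ⟨f, hf⟩ := exists_isBasis e
  let b : Module.Basis (Fin n) (ModSite.stalkRing (pt x) O) (ModSite.stalkMod (pt x) H) :=
    Module.Basis.mk (hf.linearIndependent_gm hxU) (span_gm_of_isGen hf.gen hxU).ge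
  have : Module.Free (ModSite.stalkRing (pt x) O) (ModSite.stalkMod (pt x) H) := Module.Free.of_basis b
  have : Module.Finite (ModSite.stalkRing (pt x) O) (ModSite.stalkMod (pt x) H) := Module.Finite.of_basis b
  let i' := (ModSite.stalkMap (pt x) i).hom
  let p' := (ModSite.stalkMap (pt x) p).hom
  have hpi : ∀ m, p' (i' m) = m := fun m => by
    obtain ⟨V, hxV, t, rfl⟩ := exists_gm_eq m
    rw [stalkMap_gm, stalkMap_gm, ← appL_comp, hip, appL_id]
  have : Module.Finite (ModSite.stalkRing (pt x) O) (ModSite.stalkMod (pt x) F) :=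
    Module.Finite.of_surjective p' fun m => ⟨i' m, hpi m⟩
  have : Module.Projective (ModSite.stalkRing (pt x) O) (ModSite.stalkMod (pt x) F) :=
    Module.Projective.of_split i' p' (LinearMap.ext hpi)
  have : Module.Free (ModSite.stalkRing (pt x) O) (ModSite.stalkMod (pt x) F) := Module.free_of_flat_of_isLocalRing
  obtain ⟨W, hxW, s, hs⟩ := exists_isBasis_of_stalk_basis (F := F)
    (Module.finBasis (ModSite.stalkRing (pt x) O) (ModSite.stalkMod (pt x) F))
  exact ⟨W, _, hxW, s, hs⟩

end Groth.Agent.DSites.ModLoc.Top
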