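import Groth.Agent.DSites.ModLoc.Sect
import Groth.Agent.DSites.ModLoc.TopStalk
import Mathlib.LinearAlgebra.Dimension.StrongRankCondition
import Mathlib.SetTheory.Cardinal.Finite

/-!
# Ranks of locally free sheaves of modules
-/

set_option autoImplicit false

universe u

open CategoryTheory CategoryTheory.Limits Opposite TopologicalSpace

namespace Groth.Agent.DSites.ModLoc.Top

open FMod90

variable {X : TopCat.{u}} {O : Sheaf (Opens.grothendieckTopology X) CommRingCat.{u}}
  {F : ModSite.Mod O} {U V W : Opens X} {x : X} {I : Type u}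

theorem exists_stalk_basis (e : (ModSite.restr O U).obj F ≅ SheafOfModules.free I) (hx : x ∈ U) :
    Nonempty (Module.Basis I (ModSite.stalkRing (pt x) O) (ModSite.stalkMod (pt x) F)) := by
  classical
  let M := (ModSite.restr O U).obj F
  let σ : M.GeneratingSections :=
    { I := I, s := fun i => SheafOfModules.sectionsMap e.inv (SheafOfModules.freeSection i)
      epi := by
        rw [← SheafOfModules.freeHomEquiv_symm_comp]
        have : IsIso ((SheafOfModules.free (R := ModSite.ringSh (O.over U)) I).freeHomEquiv.symm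
            fun i => SheafOfModules.freeSection i) := by
          rw [show (fun i => SheafOfModules.freeSection (R := ModSite.ringSh (O.over U)) i) =
            (SheafOfModules.free I).freeHomEquiv (𝟙 _) from rfl, Equiv.symm_apply_apply]
          infer_instance
        have : IsIso e.inv := e.isIso_inv
        infer_instance }
  let s : I → Sec F U := topGens σ
  have hs : LinearIndependent (ModSite.stalkRing (pt x) O) fun i => gm F hx (s i) := by
    rw [linearIndependent_iff']
    intro t c hc j hj
    obtain ⟨W, hW, hxW, a, ha⟩ := exists_rep_ring hx fun q : t => c q.1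
    have h0 : gm F hxW (∑ q : t, a q • res F hW (s q.1)) = gm F hxW 0 := by
      rw [gm_sum, gm_zero, ← hc, ← Finset.sum_coe_sort t]
      exact Finset.sum_congr rfl fun q _ => by rw [gm_smul, gm_res, ha]
    obtain ⟨W', hW', hxW', e0⟩ := exists_res_eq hxW h0
    rw [map_zero, map_sum] at e0
    let Y : Over U := Over.mk (homOfLE (hW'.trans hW))
    let L := e.hom ≫ Site.proj (O := O.over U) j
    let φ := (((ModTensor.fg (O.over U)).map L).app (op Y)).hom
    have hb : ∀ i : I, φ (ModTensor.rs ((ModTensor.fg (O.over U)).obj M) (toTop Y).op (s i)) =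
        ((if i = j then 1 else 0) : (O.over U).obj.obj (op Y)) := by
      intro i
      refine Eq.trans (b := (((ModTensor.fg (O.over U)).map
        (SheafOfModules.ιFree (R := ModSite.ringSh (O.over U)) i ≫ Site.proj (O := O.over U) j)).app (op Y)).hom
          (1 : (O.over U).obj.obj (op Y))) ?_ ?_
      · have e1 : ModTensor.rs ((ModTensor.fg (O.over U)).obj M) (toTop Y).op (s i) = (σ.s i).val (op Y) :=
          (σ.s i).property (toTop Y).op
        rw [e1]
        show ((e.inv ≫ e.hom ≫ Site.proj (O := O.over U) j).val.app (op Y)).hom _ = _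
        rw [e.inv_hom_id_assoc]
        rfl
      · rw [Site.ιFree_proj (O := O.over U) i j]
        by_cases hij : i = j
        · rw [if_pos hij, if_pos hij]
          rfl
        · rw [if_neg hij, if_neg hij]
          rfl
    let a' : t → (O.over U).obj.obj (op Y) := fun q => rres O hW' (a q)
    have h1 : φ (∑ q : t, a' q •
        ModTensor.rs ((ModTensor.fg (O.over U)).obj M) (toTop Y).op (s q.1)) = 0 := by
      refine (congrArg φ ?_).trans (map_zero φ)
      refine Eq.trans ?_ e0
      exact Finset.sum_congr rfl fun q _ => by rw [res_smul, res_res]; rfl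
    rw [map_sum] at h1
    simp only [map_smul, hb] at h1
    rw [Finset.sum_eq_single ⟨j, hj⟩] at h1
    · rw [if_pos rfl] at h1
      have h2 : rres O hW' (a ⟨j, hj⟩) = 0 := (mul_one _).symm.trans h1
      rw [← ha ⟨j, hj⟩, ← gr_rres hW' hxW', h2]
      exact gr_zero hxW'
    · intro q _ hq
      rw [if_neg fun h => hq (Subtype.ext h)]
      exact mul_zero (M₀ := (O.over U).obj.obj (op Y)) _
    · exact fun h => absurd (Finset.mem_univ _) h
  have hspan : ⊤ ≤ Submodule.span (ModSite.stalkRing (pt x) O) (Set.range fun i => gm F hx (s i)) := by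
    intro y _
    obtain ⟨V, hxV, t, rfl⟩ := exists_gm_eq y
    obtain ⟨S, hS, hSP⟩ := locally_left (gen_topGens σ (Over.mk (homOfLE (inf_le_right : V ⊓ U ≤ U)))
      (res F inf_le_left t))
    obtain ⟨W, g, hg, hxW⟩ := hS x (show x ∈ V ⊓ U from ⟨hxV, hx⟩)
    let Y : Over U := Over.mk (g ≫ homOfLE (inf_le_right : V ⊓ U ≤ U))
    refine (gm_res (inf_le_left : V ⊓ U ≤ V) (leOfHom g hxW) t).symm ▸ ?_
    rw [← gm_res (leOfHom g) hxW]
    refine isComb_induction (R := (O.over U).obj.obj (op Y))
      (gen := gens (U := fun _ : σ.I => topO U) M (topGens σ) Y)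
      (motive := fun z => gm F hxW z ∈
        Submodule.span (ModSite.stalkRing (pt x) O) (Set.range fun i => gm F hx (s i))) ?_ ?_ ?_ (hSP g hg)
    · exact (gm_zero hxW).symm ▸ zero_mem _
    · exact fun p q hp hq => (gm_add hxW p q).symm ▸ add_mem hp hq
    · intro r q
      refine (gm_smul hxW r _).symm ▸ Submodule.smul_mem _ _ (Submodule.subset_span ⟨q.1, ?_⟩)
      exact (gm_res (leOfHom q.2.left) hxW (s q.1)).symm
  exact ⟨Module.Basis.mk hs hspan⟩

theorem exists_rank (hO : ∀ x : X, Nontrivial (ModSite.stalkRing (pt x) O))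
    [hF : SheafOfModules.IsLocallyFree (R := ModSite.ringSh O) F] :
    ∃ rk : X → ℕ∞, IsLocallyConstant rk ∧
      ∀ (x : X) (U : Opens X) (I : Type u), x ∈ U →
        Nonempty ((ModSite.restr O U).obj F ≅ SheafOfModules.free I) → ENat.card I = rk x := by
  obtain ⟨σ, hσ⟩ := hF.exists_isLocallyFreeData
  choose i hi using fun x : X => IsOpenCover.exists_mem ((Opens.coversTop_iff X σ.X).1 σ.coversTop) x
  have key : ∀ (x : X) (U : Opens X) (I : Type u), x ∈ U →
      Nonempty ((ModSite.restr O U).obj F ≅ SheafOfModules.free I) →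
        ENat.card I = ENat.card (σ.generators (i x)).I := by
    intro x U I hx ⟨e⟩
    have := hσ.isIso (i x)
    obtain ⟨b⟩ := exists_stalk_basis e hx
    obtain ⟨b'⟩ := exists_stalk_basis
      ((@asIso _ _ _ _ (σ.generators (i x)).π (hσ.isIso (i x))).symm) (hi x)
    have := hO x
    exact ENat.card_congr (b.indexEquiv b')
  refine ⟨fun x => ENat.card (σ.generators (i x)).I, ?_, key⟩
  refine (IsLocallyConstant.iff_exists_open _).2 fun x => ⟨σ.X (i x), (σ.X (i x)).isOpen, hi x, fun y hy => ?_⟩
  exact (key y (σ.X (i x)) _ hy ⟨(@asIso _ _ _ _ (σ.generators (i x)).π (hσ.isIso (i x))).symm⟩).symm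

end Groth.Agent.DSites.ModLoc.Top
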